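import Cfsg.Agent.Lib.Chev.TwTools
import Cfsg.Agent.Lib.Chev.TwMult.Triality.Rank

/-!
The rank one subgroup of an orbit of a simply laced twisted group as an image of `SL(2)` over the field of the
orbit, with its torus.
-/

set_option autoImplicit false
set_option linter.unusedSectionVars false

namespace Cfsg.Lib.Chev.TwMult

open Cfsg.Lie
open scoped MatrixGroups

variable {D : ChevalleyDatum} {T : Tbl} {F : Type*} [Field F]

/-- The elements of a field fixed by a power of an endomorphism. -/
def fxField (f : F →+* F) (m : ℕ) : Subfield F where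
  carrier := {t | f^[m] t = t}
  mul_mem' {a b} ha hb := by show f^[m] (a * b) = a * b; rw [iterate_map_mul, ha, hb]
  one_mem' := iterate_map_one f m
  add_mem' {a b} ha hb := by show f^[m] (a + b) = a + b; rw [iterate_map_add, ha, hb]
  zero_mem' := iterate_map_zero f m
  neg_mem' {a} ha := by show f^[m] (-a) = -a; rw [iterate_map_neg, ha]
  inv_mem' a ha := by
    show f^[m] a⁻¹ = a⁻¹
    rw [(Function.Semiconj.iterate_right (f := fun x : F => x⁻¹) (ga := f) (gb := f) (fun x => (map_inv₀ f x).symm)
      m a).symm, ha]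

/-- The homomorphism of a root. -/
noncomputable def rHom (C : Cert D T) (r : ℕ) : SL(2, F) →* GL D.Idx F :=
  if h : r < D.nroots then (rootRel (F := F) C h).hom else 1

variable (C : Cert D T)
include C

theorem rHom_upr {r : ℕ} (hr : r < D.nroots) (b : F) : rHom C r (SLTwoRel.upr b) = xg C r b := by
  rw [rHom, dif_pos hr]; exact (rootRel (F := F) C hr).toFun'_upr b

theorem rHom_lwr {r : ℕ} (hr : r < D.nroots) (b : F) : rHom C r (SLTwoRel.lwr b) = xg C (T.neg r) b := by
  rw [rHom, dif_pos hr]; exact (rootRel (F := F) C hr).toFun'_lwr b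

theorem rHom_rot {r : ℕ} (hr : r < D.nroots) : rHom (F := F) C r SLTwoRel.rot = ng C r 1 := by
  rw [rHom, dif_pos hr]; exact (rootRel (F := F) C hr).toFun'_rot

theorem rHom_tri {r : ℕ} (hr : r < D.nroots) (a : F) (ha : a ≠ 0) :
    rHom C r (SLTwoRel.tri a 0 ha) = hg C r a := by
  rw [rHom, dif_pos hr]
  show (rootRel (F := F) C hr).toFun' _ = _
  simp [SLTwoRel.toFun', SLTwoRel.coe_tri, rootRel, xg_zero]

theorem rHom_mem {r : ℕ} (hr : r < D.nroots) (g : SL(2, F)) :
    rHom C r g ∈ Subgroup.closure (Set.range (xg C (F := F) r) ∪ Set.range (xg C (T.neg r))) := by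
  have h : rHom C r g ∈ (rootRel (F := F) C hr).hom.range := ⟨g, by rw [rHom, dif_pos hr]⟩
  rw [SLTwoRel.hom_range] at h
  exact h

/-- Commutation of the four kinds of root elements of two roots. -/
def PairComm (C : Cert D T) (F : Type*) [Field F] (r s : ℕ) : Prop :=
  ∀ t u : F, Commute (xg C r t) (xg C s u) ∧ Commute (xg C r t) (xg C (T.neg s) u) ∧
    Commute (xg C (T.neg r) t) (xg C s u) ∧ Commute (xg C (T.neg r) t) (xg C (T.neg s) u)

theorem rHom_commute {r s : ℕ} (hr : r < D.nroots) (hs : s < D.nroots) (h : PairComm C F r s) (a b : SL(2, F)) :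
    Commute (rHom C r a) (rHom C s b) := by
  have h1 : ∀ y ∈ Set.range (xg C (F := F) s) ∪ Set.range (xg C (T.neg s)), Commute (rHom C r a) y := by
    intro y hy
    have := rHom_mem C hr a
    revert this
    generalize rHom C r a = z
    intro this
    induction this using Subgroup.closure_induction with
    | mem x hx =>
      rcases hx with ⟨t, rfl⟩ | ⟨t, rfl⟩ <;> rcases hy with ⟨u, rfl⟩ | ⟨u, rfl⟩
      exacts [(h t u).1, (h t u).2.1, (h t u).2.2.1, (h t u).2.2.2]
    | one => exact Commute.one_left _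
    | mul x z _ _ hx hz => exact hx.mul_left hz
    | inv x _ hx => exact hx.inv_left
  have := rHom_mem C hs b
  revert this
  generalize rHom C s b = z
  intro this
  induction this using Subgroup.closure_induction with
  | mem x hx => exact h1 x hx
  | one => exact Commute.one_right _
  | mul x z _ _ hx hz => exact hx.mul_right hz
  | inv x _ hx => exact hx.inv_right

variable (f : F →+* F)

omit C in
/-- The product of the root homomorphisms along a list, twisted by the endomorphism. -/
noncomputable def orbFun (C : Cert D T) (f : F →+* F) : List ℕ → SL(2, F) → GL D.Idx F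
  | [], _ => 1
  | r :: l, g => rHom C r g * orbFun C f l (Matrix.SpecialLinearGroup.map f g)

theorem orbFun_commute {x : GL D.Idx F} : ∀ (l : List ℕ) (g : SL(2, F)),
    (∀ s ∈ l, ∀ h, Commute x (rHom C s h)) → Commute x (orbFun C f l g)
  | [], _, _ => Commute.one_right x
  | r :: l, g, h => (h r (List.mem_cons_self ..) g).mul_right
      (orbFun_commute l _ fun s hs => h s (List.mem_cons_of_mem _ hs))

theorem orbFun_mul : ∀ (l : List ℕ) (a b : SL(2, F)), (∀ r ∈ l, r < D.nroots) → l.Pairwise (PairComm C F) →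
    orbFun C f l (a * b) = orbFun C f l a * orbFun C f l b
  | [], a, b, _, _ => by simp [orbFun]
  | r :: l, a, b, hl, hp => by
    obtain ⟨h1, h2⟩ := List.pairwise_cons.1 hp
    have hl' : ∀ s ∈ l, s < D.nroots := fun s hs => hl s (List.mem_cons_of_mem _ hs)
    have c : Commute (rHom C r b) (orbFun C f l (Matrix.SpecialLinearGroup.map f a)) :=
      orbFun_commute C f l _ fun s hs h => rHom_commute C (hl r (List.mem_cons_self ..)) (hl' s hs) (h1 s hs) b h
    simp only [orbFun, map_mul]
    rw [orbFun_mul l _ _ hl' h2]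
    calc rHom C r a * rHom C r b * (orbFun C f l (Matrix.SpecialLinearGroup.map f a) *
          orbFun C f l (Matrix.SpecialLinearGroup.map f b))
        = rHom C r a * (rHom C r b * orbFun C f l (Matrix.SpecialLinearGroup.map f a)) *
          orbFun C f l (Matrix.SpecialLinearGroup.map f b) := by group
      _ = _ := by rw [c.eq]; group

omit C in
theorem map_upr {E : Type*} [Field E] (f : E →+* F) (b : E) :
    Matrix.SpecialLinearGroup.map f (SLTwoRel.upr b) = SLTwoRel.upr (f b) := by
  refine Subtype.ext ?_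
  ext i j
  fin_cases i <;> fin_cases j <;> simp [SLTwoRel.coe_upr]

omit C in
theorem map_lwr {E : Type*} [Field E] (f : E →+* F) (b : E) :
    Matrix.SpecialLinearGroup.map f (SLTwoRel.lwr b) = SLTwoRel.lwr (f b) := by
  refine Subtype.ext ?_
  ext i j
  fin_cases i <;> fin_cases j <;> simp [Tri.coe_lwr]

omit C in
theorem map_rot {E : Type*} [Field E] (f : E →+* F) :
    Matrix.SpecialLinearGroup.map f (SLTwoRel.rot : SL(2, E)) = SLTwoRel.rot := by
  refine Subtype.ext ?_
  ext i j
  fin_cases i <;> fin_cases j <;> simp [SLTwoRel.coe_rot]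

omit C in
theorem map_tri {E : Type*} [Field E] (f : E →+* F) (a : E) (ha : a ≠ 0) :
    Matrix.SpecialLinearGroup.map f (SLTwoRel.tri a 0 ha) =
    SLTwoRel.tri (f a) 0 ((map_ne_zero f).2 ha) := by
  refine Subtype.ext ?_
  ext i j
  fin_cases i <;> fin_cases j <;> simp [SLTwoRel.coe_tri, map_inv₀]

theorem orbFun_upr : ∀ (l : List ℕ) (b : F), (∀ r ∈ l, r < D.nroots) →
    orbFun C f l (SLTwoRel.upr b) = orbEl C f l b
  | [], _, _ => rfl
  | r :: l, b, hl => by
    rw [orbFun, map_upr, orbFun_upr l _ fun s hs => hl s (List.mem_cons_of_mem _ hs),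
      rHom_upr C (hl r (List.mem_cons_self ..))]
    rfl

theorem orbFun_lwr : ∀ (l : List ℕ) (b : F), (∀ r ∈ l, r < D.nroots) →
    orbFun C f l (SLTwoRel.lwr b) = orbEl C f (l.map T.neg) b
  | [], _, _ => rfl
  | r :: l, b, hl => by
    rw [orbFun, map_lwr, orbFun_lwr l _ fun s hs => hl s (List.mem_cons_of_mem _ hs),
      rHom_lwr C (hl r (List.mem_cons_self ..))]
    rfl

theorem orbFun_rot : ∀ (l : List ℕ), (∀ r ∈ l, r < D.nroots) →
    orbFun (F := F) C f l SLTwoRel.rot = nGen C f l 1
  | [], _ => rfl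
  | r :: l, hl => by
    rw [orbFun, map_rot, orbFun_rot l fun s hs => hl s (List.mem_cons_of_mem _ hs),
      rHom_rot C (hl r (List.mem_cons_self ..)), nGen, map_one]

theorem nGen_one : ∀ l : List ℕ, nGen C f (l.map T.simp') (1 : F) = wnu C F l
  | [] => by simp [nGen, wnu]
  | a :: l => by rw [List.map_cons, nGen, map_one, nGen_one l, wnu_cons]; rfl

theorem hg_torus {i : ℕ} (hi : i < D.rank) (u : Fˣ) :
    hg C (T.simp' i) (u : F) = torusHom D T F (Pi.mulSingle ⟨i, hi⟩ u) := by
  refine Units.ext ?_
  rw [coe_hg_eq C (C.spec.simp_lt i hi) u.ne_zero, coDiag_simple C hi, dModel_eq_scal hi, coe_torusHom]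
  congr 1
  funext j
  by_cases hj : j = i
  · subst hj; simp [extend', hi]
  · by_cases hjr : j < D.rank
    · simp [extend', hjr, hj, Pi.mulSingle_apply, Fin.ext_iff]
    · simp [extend', hjr, hj]

omit C in
/-- The torus parameters along a list of nodes. -/
noncomputable def parFun (D : ChevalleyDatum) (f : F →+* F) : List ℕ → Fˣ → (Fin D.rank → Fˣ)
  | [], _ => 1
  | i :: l, u => (if h : i < D.rank then Pi.mulSingle ⟨i, h⟩ u else 1) * parFun D f l (Units.map f.toMonoidHom u)

omit C in
theorem parFun_mul : ∀ (l : List ℕ) (u v : Fˣ), parFun D f l (u * v) = parFun D f l u * parFun D f l v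
  | [], _, _ => by simp [parFun]
  | i :: l, u, v => by
    simp only [parFun, map_mul, parFun_mul l]
    split_ifs
    · rw [Pi.mulSingle_mul, mul_mul_mul_comm]
    · rw [one_mul, one_mul, one_mul]

theorem orbFun_tri : ∀ (l : List ℕ) (u : Fˣ), (∀ i ∈ l, i < D.rank) →
    orbFun C f (l.map T.simp') (SLTwoRel.tri (u : F) 0 u.ne_zero) = torusHom D T F (parFun D f l u)
  | [], _, _ => by simp [orbFun, parFun]
  | i :: l, u, hl => by
    have hi := hl i (List.mem_cons_self ..)
    rw [List.map_cons, orbFun, map_tri, rHom_tri C (C.spec.simp_lt i hi), parFun, dif_pos hi, map_mul,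
      hg_torus C hi u]
    exact congrArg _ (orbFun_tri l (Units.map f.toMonoidHom u) fun s hs => hl s (List.mem_cons_of_mem _ hs))

omit C in
theorem powHom_mulSingle {G : Type*} [CommGroup G] {n : ℕ} (M : Matrix (Fin n) (Fin n) ℤ) (i k : Fin n) (u : G) :
    powHom M (Pi.mulSingle i u) k = u ^ M k i := by
  show (∏ j, (Pi.mulSingle i u : Fin n → G) j ^ M k j) = _
  rw [Finset.prod_eq_single i]
  · rw [Pi.mulSingle_eq_same]
  · intro j _ hj; rw [Pi.mulSingle_eq_of_ne hj, one_zpow]
  · intro h; exact absurd (Finset.mem_univ i) h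

omit C in
theorem powHom_parFun_zero (k : Fin D.rank) : ∀ (l : List ℕ) (u : Fˣ),
    (∀ i ∈ l, T.cartan i (T.simp' k) = 0) → powHom (cartanMat D T) (parFun D f l u) k = 1
  | [], _, _ => by rw [parFun, map_one]; rfl
  | i :: l, u, h => by
    rw [parFun, map_mul, Pi.mul_apply, powHom_parFun_zero k l _ fun s hs => h s (List.mem_cons_of_mem _ hs), mul_one]
    split_ifs with hi
    · rw [powHom_mulSingle]
      show u ^ T.cartan i (T.simp' k) = 1
      rw [h i (List.mem_cons_self ..), zpow_zero]
    · rw [map_one]; rfl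

end Cfsg.Lib.Chev.TwMult
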