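import Cfsg.Agent.Lib.Chev.TwMult.Simply.Cross
import Cfsg.Agent.Lib.Chev.TwMult.RootChain
import Cfsg.Agent.Lib.Chev.TwMult.Closed
import Cfsg.Agent.Lib.Chev.TorusLang

/-!
The root subgroups of the classes of a simply laced twisted group, ordered so that they are closed from the top.
-/

set_option autoImplicit false
set_option linter.unusedSectionVars false

namespace Cfsg.Lib.Chev.TwMult

open Cfsg.Lie
open scoped commutatorElement MatrixGroups

universe u

/-- The roots of the classes below `j`. -/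
def belowOf (roots : ℕ → List ℕ) : ℕ → List ℕ
  | 0 => []
  | j + 1 => roots j ++ belowOf roots j

/-- An ordering of the classes closed from the top. -/
structure ClassOrder (D : ChevalleyDatum) (T : Tbl) (τ : TwData) where
  N : ℕ
  cl : ℕ → ℕ × ℕ
  mem : ∀ j < N, cl j ∈ τ.classes
  nodup : ∀ j ≤ N, (belowOf (fun i => τ.cls T (cl i)) j).Nodup
  pos : ∀ j ≤ N, ∀ r ∈ belowOf (fun i => τ.cls T (cl i)) j, D.nroots / 2 ≤ r ∧ r < D.nroots
  cover : ∀ r < D.nroots, D.nroots ≤ 2 * r → r ∈ belowOf (fun i => τ.cls T (cl i)) N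
  backB : ∀ j ≤ N, chkBack T (belowOf (fun i => τ.cls T (cl i)) j) = true
  backR : ∀ j < N, chkBack T (τ.cls T (cl j)) = true
  comm : ∀ j < N, ∀ k < j,
    chkTerms T (τ.cls T (cl j)) (τ.cls T (cl k)) (belowOf (fun i => τ.cls T (cl i)) k) = true
  norm : ∀ j < N, ∀ k ≤ j,
    chkTerms T (τ.cls T (cl j)) (belowOf (fun i => τ.cls T (cl i)) k) (belowOf (fun i => τ.cls T (cl i)) k) = true
  stableB : ∀ j ≤ N, ∀ r ∈ belowOf (fun i => τ.cls T (cl i)) j, τ.root r ∈ belowOf (fun i => τ.cls T (cl i)) j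
  stableR : ∀ j < N, ∀ r ∈ τ.cls T (cl j), τ.root r ∈ τ.cls T (cl j)

/-- The roots of the classes below a place. -/
noncomputable abbrev ClassOrder.below {D : ChevalleyDatum} {T : Tbl} {τ : TwData} (O : ClassOrder D T τ) (j : ℕ) : List ℕ :=
  belowOf (fun i => τ.cls T (O.cl i)) j

namespace STw

variable {D : ChevalleyDatum} {T : Tbl} {F : Type u} [Field F] (X : STw D T F)

/-- Surjections of the field onto the orbit fields. -/
structure Proj where
  prj : Fin X.tw.norb → F →+ F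
  mem : ∀ J v, prj J v ∈ X.Fd J
  surj : ∀ J, ∀ c ∈ X.Fd J, ∃ v, prj J v = c
  smul : ∀ J, ∀ c ∈ X.Fd J, ∀ v, prj J (c * v) = c * prj J v

/-- The element of an orbit word. -/
noncomputable def gEl (e : ℕ) : ↥X.grp :=
  ((X.tw.elt e).ow.map fun J => if h : J < X.tw.norb then X.n ⟨J, h⟩ else 1).prod

theorem gEl_val {e : ℕ} (he : e < X.tw.elts.length) :
    (X.gEl e : GL D.Idx F) = wnu X.cert F (X.tw.eword e) := by
  obtain ⟨hl, -⟩ := X.comb.elt_spec X.cert e he
  unfold gEl TwData.eword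
  revert hl
  induction (X.tw.elt e).ow with
  | nil => intro _; simp [TwData.oword, wnu]
  | cons J l ih =>
    intro hl
    have hJ := hl J (List.mem_cons_self ..)
    rw [List.map_cons, List.prod_cons, Subgroup.coe_mul, dif_pos hJ, n_val,
      ih fun x hx => hl x (List.mem_cons_of_mem _ hx), ← wnu_append]
    simp [TwData.oword]

theorem gEl_spec {e : ℕ} (he : e < X.tw.elts.length) :
    (wnu X.cert F (X.tw.eword e))⁻¹ * (X.gEl e : GL D.Idx F) ∈ D.diagonalSubgroup F := by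
  rw [X.gEl_val he, inv_mul_cancel]; exact one_mem _

/-- Fixed parameters of the torus. -/
def FPar : Type _ := {c : Fin D.rank → Fˣ // twPar X.sok X.f c = c}

/-- A fixed element of the torus. -/
noncomputable def ftor (i : X.FPar) : ↥X.grp :=
  ⟨torusHom D T F i.1, diag_le_group X.cert (by rw [← torusHom_range X.cert]; exact ⟨_, rfl⟩),
    by rw [twSigma_torus X.cert X.sok, i.2]⟩

theorem ftor_comm (i i' : X.FPar) : Commute (X.ftor i) (X.ftor i') :=
  Subtype.ext (diag_comm X.cert (by rw [← torusHom_range X.cert]; exact ⟨_, rfl⟩)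
    (by rw [← torusHom_range X.cert]; exact ⟨_, rfl⟩))

/-- The character of a root at fixed parameters. -/
noncomputable def fchr (i : X.FPar) (r : ℕ) : F := chr T D (extend' i.1) r

/-- A conjugate of a torus element scales an orbit root element. -/
theorem ftor_conj_upr (J : Fin X.tw.norb) {e : ℕ} (he : e < X.tw.elts.length) (i : X.FPar) (b : ↥(X.Fd J)) :
    ∃ b' : ↥(X.Fd J), (b' : F) = X.fchr i (wperm T (X.tw.eword e) (T.simp' (X.tw.head J))) * (b : F) ∧
      ((X.gEl e)⁻¹ * X.ftor i * X.gEl e) * X.phi J (SLTwoRel.upr b) * ((X.gEl e)⁻¹ * X.ftor i * X.gEl e)⁻¹ =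
        X.phi J (SLTwoRel.upr b') := by
  set g := X.gEl e
  set h' := g⁻¹ * X.ftor i * g
  have hw := X.comb.eword_word X.cert he
  have hmono : (g : GL D.Idx F) ∈ D.monomialSubgroup F := by
    rw [show (g : GL D.Idx F) = _ from X.gEl_val he]; exact wnu_mem X.cert hw
  have hH : h' ∈ X.H := by
    rw [Subgroup.mem_subgroupOf]
    exact (conj_mem_diag X.cert hmono (by rw [← torusHom_range X.cert]; exact ⟨_, rfl⟩)).2
  obtain ⟨b', hb'⟩ := X.H_conj_XJ J hH (X.upr_mem_XJ J b)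
  refine ⟨b'.toAdd, ?_, hb'.symm⟩
  obtain ⟨r, l, hr, hb, -, hpos, hnd, -, -⟩ := X.simply.orbit_data X.cert X.sok (F := F) X.full X.comb J.2
  obtain ⟨t, ht, ht'⟩ := orbEl_mem_pset X.cert X.f (r :: l) (b : F) hnd
  obtain ⟨t2, ht2, ht2'⟩ := orbEl_mem_pset X.cert X.f (r :: l) (b'.toAdd : F) hnd
  obtain ⟨c, hc0, hcl⟩ := mono_conj_lprod X.cert hw (X.gEl_spec he)
  have hl : ∀ s ∈ r :: l, s < D.nroots := fun s hs => (hpos s hs).2.1
  let t3 : ℕ → F := fun s => X.fchr i (wperm T (X.tw.eword e) s) * t s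
  have hL : (h' : GL D.Idx F) * lprod X.cert (r :: l) t * (h' : GL D.Idx F)⁻¹ = lprod X.cert (r :: l) t3 := by
    have e1 : torusHom D T F i.1 * ((g : GL D.Idx F) * lprod X.cert (r :: l) t * (g : GL D.Idx F)⁻¹) *
        (torusHom D T F i.1)⁻¹ = (g : GL D.Idx F) * lprod X.cert (r :: l) t3 * (g : GL D.Idx F)⁻¹ := by
      rw [hcl _ _ hl, hcl _ _ hl, ← MulAut.conj_apply, map_list_prod, List.map_map]
      refine congrArg List.prod (List.map_congr_left fun s hs => ?_)
      show torusHom D T F i.1 * xg X.cert (wperm T (X.tw.eword e) s) (c s * t s) * (torusHom D T F i.1)⁻¹ = _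
      rw [torusHom_conj_xg X.cert i.1 (wperm_lt X.cert hw (hl s hs))]
      show _ = xg X.cert (wperm T (X.tw.eword e) s) (c s * t3 s)
      congr 1
      simp only [t3, fchr]
      ring
    calc (h' : GL D.Idx F) * lprod X.cert (r :: l) t * (h' : GL D.Idx F)⁻¹
        = (g : GL D.Idx F)⁻¹ * (torusHom D T F i.1 * ((g : GL D.Idx F) * lprod X.cert (r :: l) t * (g : GL D.Idx F)⁻¹) *
            (torusHom D T F i.1)⁻¹) * (g : GL D.Idx F) := by
          simp only [h', Subgroup.coe_mul, Subgroup.coe_inv, ftor]; group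
      _ = _ := by rw [e1]; group
  have e2 := congrArg (fun z : ↥X.grp => (z : GL D.Idx F)) hb'
  change X.phiGL J (SLTwoRel.upr b'.toAdd) = (h' : GL D.Idx F) * X.phiGL J (SLTwoRel.upr b) * (h' : GL D.Idx F)⁻¹ at e2
  rw [phiGL_upr, phiGL_upr, hb, ht, ht2, hL] at e2
  have := lprod_inj X.cert X.full.comm hnd (fun s hs => ⟨(hpos s hs).1, (hpos s hs).2.1⟩) e2 r (List.mem_cons_self ..)
  rw [ht2' r rfl] at this
  rw [this, ← hr]
  simp only [t3, ht' r rfl]

variable (P : X.Proj) (O : ClassOrder D T X.tw)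

/-- The root element of a class. -/
noncomputable def xcl (j : ℕ) (v : F) : ↥X.grp :=
  if h : j < O.N then X.gEl (O.cl j).2 *
    X.phi ⟨(O.cl j).1, (X.comb.class_lt _ (O.mem j h)).1⟩ (SLTwoRel.upr ⟨P.prj _ v, P.mem _ v⟩) * (X.gEl (O.cl j).2)⁻¹
  else 1

theorem xcl_eq {j : ℕ} (h : j < O.N) (v : F) : X.xcl P O j v = X.gEl (O.cl j).2 *
    X.phi ⟨(O.cl j).1, (X.comb.class_lt _ (O.mem j h)).1⟩ (SLTwoRel.upr ⟨P.prj _ v, P.mem _ v⟩) *
      (X.gEl (O.cl j).2)⁻¹ := dif_pos h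

theorem xcl_add {j : ℕ} (h : j < O.N) (a b : F) : X.xcl P O j (a + b) = X.xcl P O j a * X.xcl P O j b := by
  rw [X.xcl_eq P O h, X.xcl_eq P O h, X.xcl_eq P O h]
  set J : Fin X.tw.norb := ⟨(O.cl j).1, (X.comb.class_lt _ (O.mem j h)).1⟩
  have e : (⟨P.prj J (a + b), P.mem J _⟩ : ↥(X.Fd J)) = ⟨P.prj J a, P.mem J _⟩ + ⟨P.prj J b, P.mem J _⟩ :=
    Subtype.ext (map_add (P.prj J) a b)
  rw [e, upr_add, map_mul]
  group

theorem xcl_zero {j : ℕ} (h : j < O.N) : X.xcl P O j 0 = 1 := by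
  have := X.xcl_add P O h 0 0
  rw [add_zero] at this
  exact left_eq_mul.1 this

/-- The weight of a class. -/
noncomputable def lamC (i : X.FPar) (j : ℕ) : F :=
  X.fchr i (wperm T (X.tw.eword (O.cl j).2) (T.simp' (X.tw.head (O.cl j).1)))

theorem lamC_ne (i : X.FPar) (j : ℕ) : X.lamC O i j ≠ 0 := by
  rw [lamC, fchr, chr]
  exact Finset.prod_ne_zero_iff.2 fun k _ => zpow_ne_zero _ (extend'_ne _ _)

theorem xcl_conj (i : X.FPar) {j : ℕ} (h : j < O.N) (a : F) :
    X.ftor i * X.xcl P O j a * (X.ftor i)⁻¹ = X.xcl P O j (X.lamC O i j * a) := by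
  rw [X.xcl_eq P O h, X.xcl_eq P O h]
  set J : Fin X.tw.norb := ⟨(O.cl j).1, (X.comb.class_lt _ (O.mem j h)).1⟩
  have he := (X.comb.class_lt _ (O.mem j h)).2
  obtain ⟨l1, hl1, -⟩ := X.ftor_conj_upr J he i 1
  have hlam : X.lamC O i j ∈ X.Fd J := by
    have h1 : (l1 : F) = X.lamC O i j := by rw [hl1]; simp [lamC, J]
    exact h1 ▸ l1.2
  obtain ⟨b', hb', e'⟩ := X.ftor_conj_upr J he i ⟨P.prj J a, P.mem J a⟩
  have hb2 : b' = ⟨P.prj J (X.lamC O i j * a), P.mem J _⟩ := Subtype.ext (by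
    rw [hb']; exact (P.smul J _ hlam a).symm)
  rw [← hb2, ← e']
  group

theorem xcl_mem_pset {j : ℕ} (h : j < O.N) (v : F) :
    (X.xcl P O j v : GL D.Idx F) ∈ Pset X.cert (X.tw.cls T (O.cl j)) := by
  obtain ⟨hJ, he⟩ := X.comb.class_lt _ (O.mem j h)
  rw [X.xcl_eq P O h, Subgroup.coe_mul, Subgroup.coe_mul, Subgroup.coe_inv]
  exact (mono_conj_pset X.cert (X.comb.eword_word X.cert he) (X.gEl_spec he) (X.comb.base_lt _ hJ)).1
    (X.mem_XJ.1 (X.upr_mem_XJ _ _))

theorem pset_xcl {j : ℕ} (h : j < O.N) {g : ↥X.grp} (hg : (g : GL D.Idx F) ∈ Pset X.cert (X.tw.cls T (O.cl j))) :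
    ∃ v, g = X.xcl P O j v := by
  obtain ⟨hJ, he⟩ := X.comb.class_lt _ (O.mem j h)
  set J : Fin X.tw.norb := ⟨(O.cl j).1, hJ⟩
  have h1 : (X.gEl (O.cl j).2)⁻¹ * g * X.gEl (O.cl j).2 ∈ X.XJ J := by
    rw [mem_XJ]
    refine (mono_conj_pset X.cert (X.comb.eword_word X.cert he) (X.gEl_spec he) (X.comb.base_lt _ hJ)).2 ?_
    simpa [mul_assoc, TwData.cls] using hg
  obtain ⟨b, hb⟩ := h1
  obtain ⟨v, hv⟩ := P.surj J _ b.toAdd.2
  refine ⟨v, ?_⟩
  rw [X.xcl_eq P O h, show (⟨P.prj J v, P.mem J v⟩ : ↥(X.Fd J)) = b.toAdd from Subtype.ext hv]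
  change X.phi J (SLTwoRel.upr b.toAdd) = _ at hb
  rw [hb]
  group

theorem sigma_closure {l : List ℕ} (hl : ∀ r ∈ l, r < D.nroots) (hst : ∀ r ∈ l, X.tw.root r ∈ l) {g : GL D.Idx F}
    (hg : g ∈ rootClosure X.cert F l) : twSigma X.sok X.f g ∈ rootClosure X.cert F l :=
  X.ok.map_closure X.cert (S := {g | ∃ r ∈ l, ∃ t : F, g = xg X.cert r t})
    (fun _ ⟨r, _, t, e⟩ => e ▸ xg_mem_group X.cert r t)
    (fun _ ⟨r, hr, t, e⟩ => by
      obtain ⟨u, hu⟩ := X.ok.map_xg r (hl r hr) t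
      rw [e, hu]; exact xg_mem_rootClosure X.cert (hst r hr) _) hg

theorem below_pset {j : ℕ} (hj : j ≤ O.N) :
    (Pset X.cert (O.below j) : Set (GL D.Idx F)) = rootClosure X.cert F (O.below j) :=
  Set.Subset.antisymm (fun _ ⟨t, e⟩ => e ▸ lprod_mem_rootClosure X.cert _ t)
    (rootClosure_subset_pset X.cert X.full.comm (O.backB j hj) (O.nodup j hj) fun r hr => (O.pos j hj r hr).2)

theorem cls_lt {j : ℕ} (h : j < O.N) : ∀ r ∈ X.tw.cls T (O.cl j), r < D.nroots := fun r hr =>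
  (O.pos (j + 1) h r (List.mem_append_left _ hr)).2

theorem cls_nodup {j : ℕ} (h : j < O.N) : (X.tw.cls T (O.cl j)).Nodup :=
  (List.nodup_append.1 (O.nodup (j + 1) h)).1

theorem stable_below {j : ℕ} (hj : j ≤ O.N) : TwStable X.cert (twSigma X.sok X.f) (O.below j) := fun g hg => by
  rw [X.below_pset O hj] at hg ⊢
  exact X.sigma_closure (fun r hr => (O.pos j hj r hr).2) (O.stableB j hj) hg

theorem stable_cls {j : ℕ} (h : j < O.N) : TwStable X.cert (twSigma X.sok X.f) (X.tw.cls T (O.cl j)) := fun g hg => by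
  obtain ⟨t, rfl⟩ := hg
  exact rootClosure_subset_pset X.cert X.full.comm (O.backR j h) (X.cls_nodup O h) (X.cls_lt O h)
    (X.sigma_closure (X.cls_lt O h) (O.stableR j h) (lprod_mem_rootClosure X.cert _ t))

theorem fixed_mem_span : ∀ j ≤ O.N, ∀ g : ↥X.grp, (g : GL D.Idx F) ∈ Pset X.cert (O.below j) →
    g ∈ spanBelow (X.xcl P O) j := by
  intro j
  induction j with
  | zero =>
    intro _ g hg
    obtain ⟨t, e⟩ := hg
    have : g = 1 := Subtype.ext (by simpa [ClassOrder.below, belowOf, lprod] using e)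
    rw [this]; exact one_mem _
  | succ j ih =>
    intro hj g hg
    obtain ⟨a, ha, b, hb, e⟩ := X.ok.fixed_split X.cert X.full X.comb (O.nodup (j + 1) hj)
      (fun r hr => O.pos (j + 1) hj r hr) (X.stable_cls O hj) (X.stable_below O (Nat.le_of_succ_le hj))
      (g := (g : GL D.Idx F)) ⟨hg, g.2.2⟩
    have haG : a ∈ X.grp := ⟨pos_le_group X.cert (pset_pos X.cert
      (fun r hr => (O.pos (j + 1) hj r (List.mem_append_left _ hr)).1) ha.1), ha.2⟩
    have hbG : b ∈ X.grp := ⟨pos_le_group X.cert (pset_pos X.cert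
      (fun r hr => (O.pos j (Nat.le_of_succ_le hj) r hr).1) hb.1), hb.2⟩
    obtain ⟨v, hv⟩ := X.pset_xcl P O hj (g := ⟨a, haG⟩) ha.1
    rw [show g = (⟨a, haG⟩ : ↥X.grp) * ⟨b, hbG⟩ from Subtype.ext e, hv]
    exact mul_mem (mem_spanBelow (Nat.lt_succ_self j) v)
      (spanBelow_mono (Nat.le_succ j) (ih (Nat.le_of_succ_le hj) ⟨b, hbG⟩ hb.1))

theorem xcl_mem_closure {j : ℕ} (h : j < O.N) (v : F) :
    (X.xcl P O j v : GL D.Idx F) ∈ rootClosure X.cert F (X.tw.cls T (O.cl j)) := by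
  obtain ⟨t, ht⟩ := X.xcl_mem_pset P O h v
  rw [ht]; exact lprod_mem_rootClosure X.cert _ t

omit X in
theorem cls_sub_below {k j : ℕ} (hk : k < j) {r : ℕ} {τ : TwData} (O : ClassOrder D T τ)
    (hr : r ∈ τ.cls T (O.cl k)) : r ∈ O.below j := by
  induction j with
  | zero => omega
  | succ j ih =>
    rcases (Nat.lt_succ_iff.1 hk).lt_or_eq with h | rfl
    · exact List.mem_append_right _ (ih h)
    · exact List.mem_append_left _ hr

theorem span_mem_closure {j : ℕ} (hj : j ≤ O.N) {g : ↥X.grp} (hg : g ∈ spanBelow (X.xcl P O) j) :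
    (g : GL D.Idx F) ∈ rootClosure X.cert F (O.below j) := by
  induction hg using Subgroup.closure_induction with
  | mem g hg =>
    obtain ⟨k, hk, a, rfl⟩ := hg
    exact rootClosure_mono X.cert (fun r hr => cls_sub_below hk O hr) (X.xcl_mem_closure P O (by omega) a)
  | one => exact one_mem _
  | mul a b _ _ ha hb => exact mul_mem ha hb
  | inv a _ ha => exact inv_mem ha

theorem xcl_closed {j : ℕ} (hj : j < O.N) {k : ℕ} (hk : k < j) (a b : F) :
    ⁅X.xcl P O j a, X.xcl P O k b⁆ ∈ spanBelow (X.xcl P O) k := by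
  refine X.fixed_mem_span P O k (by omega) _ ?_
  rw [X.below_pset O (by omega : k ≤ O.N)]
  show ((⁅X.xcl P O j a, X.xcl P O k b⁆ : ↥X.grp) : GL D.Idx F) ∈ rootClosure X.cert F (O.below k)
  rw [commutatorElement_def, Subgroup.coe_mul, Subgroup.coe_mul, Subgroup.coe_mul, Subgroup.coe_inv,
    Subgroup.coe_inv, ← commutatorElement_def]
  exact rootClosure_comm X.cert X.full.comm (O.comm j hj k hk) (O.norm j hj k hk.le) (O.norm k (by omega) k le_rfl)
    (X.cls_lt O hj) (X.cls_lt O (by omega)) (fun r hr => (O.pos k (by omega) r hr).2)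
    (X.xcl_mem_closure P O hj a) (X.xcl_mem_closure P O (by omega) b)

theorem xcl_inj {j : ℕ} (hj : j < O.N) (a : F) (h : X.xcl P O j a ∈ spanBelow (X.xcl P O) j) :
    X.xcl P O j a = 1 := by
  classical
  have h1 := X.span_mem_closure P O hj.le h
  rw [← SetLike.mem_coe, ← X.below_pset O hj.le] at h1
  obtain ⟨u, hu⟩ := h1
  obtain ⟨t, ht⟩ := X.xcl_mem_pset P O hj a
  obtain ⟨-, -, hdisj⟩ := List.nodup_append.1 (O.nodup (j + 1) hj)
  let t1 : ℕ → F := fun r => if r ∈ X.tw.cls T (O.cl j) then t r else 0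
  let t2 : ℕ → F := fun r => if r ∈ X.tw.cls T (O.cl j) then 0 else u r
  have e1 : lprod X.cert (X.tw.cls T (O.cl j) ++ O.below j) t1 = (X.xcl P O j a : GL D.Idx F) := by
    rw [lprod_append, lprod_congr X.cert (u := fun _ => (0 : F))
      (fun r hr => if_neg fun h => hdisj r h r hr rfl : ∀ r ∈ O.below j, t1 r = 0), lprod_zero, mul_one, ht]
    exact lprod_congr X.cert fun r hr => by simp [t1, hr]
  have e2 : lprod X.cert (X.tw.cls T (O.cl j) ++ O.below j) t2 = (X.xcl P O j a : GL D.Idx F) := by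
    rw [lprod_append, lprod_congr X.cert (u := fun _ => (0 : F))
      (fun r hr => if_pos hr : ∀ r ∈ X.tw.cls T (O.cl j), t2 r = 0), lprod_zero, one_mul, hu]
    exact lprod_congr X.cert fun r hr => if_neg fun h => hdisj r h r hr rfl
  have key := lprod_inj X.cert X.full.comm (O.nodup (j + 1) hj) (fun r hr => O.pos (j + 1) hj r hr) (e1.trans e2.symm)
  refine Subtype.ext ?_
  rw [ht, lprod_congr X.cert (u := fun _ => (0 : F)) fun r hr => ?_, lprod_zero]
  · rfl
  · have := key r (List.mem_append_left _ hr)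
    simpa [t1, t2, hr] using this

variable [Finite F]

theorem posT_le_span : X.U ≤ spanBelow (X.xcl P O) O.N := by
  intro g hg
  refine X.fixed_mem_span P O O.N le_rfl g ?_
  obtain ⟨e, he, hl⟩ := X.comb.exists_long_elt X.cert X.full
  have hev := nroots_even X.cert
  refine (pset_eq_signPart X.cert X.full (X.comb.eword_word X.cert he) (O.nodup O.N le_rfl) fun r => ⟨fun hr => ?_,
    fun hr => ?_⟩).2 ?_
  · obtain ⟨h1, h2⟩ := O.pos O.N le_rfl r hr
    exact mem_negSet.2 ⟨h2, by omega, hl r h2 (by omega)⟩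
  · obtain ⟨h1, h2, -⟩ := mem_negSet.1 hr
    exact O.cover r h1 h2
  · refine (Subgroup.closure_le _).2 ?_
      (posUnipotent_eq X.cert (F := F) ▸ hg : (g : GL D.Idx F) ∈ upper X.cert F (D.nroots / 2))
    rintro x ⟨r, t, h1, h2, rfl⟩
    exact xg_mem_signPart X.cert X.full h1 h2 (by simpa using hl r h2 (by omega)) t

/-- The chain of the class root subgroups. -/
noncomputable def chain (hmoved : ∀ j < O.N, ∃ i, X.lamC O i j ≠ 1) : RootChain F ↥X.grp where
  N := O.N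
  X := X.xcl P O
  ι := X.FPar
  t := X.ftor
  lam := X.lamC O
  add := fun _ hj => X.xcl_add P O hj
  comm := X.ftor_comm
  conj := fun i _ hj => X.xcl_conj P O i hj
  moved := hmoved
  closed := fun _ hj _ hk => X.xcl_closed P O hj hk
  inj := fun _ hj => X.xcl_inj P O hj

end STw

end Cfsg.Lib.Chev.TwMult
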