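import Cfsg.Agent.Lib.Chev.TwMult.Simply.Frame
import Cfsg.Agent.Lib.Chev.TwMult.RankN
import Cfsg.Agent.Lib.Chev.TwCox
import Cfsg.Agent.Lib.Chev.TwMult.RankOne

/-!
A simply laced twisted group as a group with rank one subgroups over its Weyl group.
-/

set_option autoImplicit false
set_option linter.unusedSectionVars false

namespace Cfsg.Lib.Chev.TwMult

open Cfsg.Lie
open scoped MatrixGroups

universe u

theorem rot_sq {F : Type*} [Field F] :
    (SLTwoRel.rot : SL(2, F)) * SLTwoRel.rot = SLTwoRel.tri (-1) 0 (neg_ne_zero.2 one_ne_zero) := by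
  refine Subtype.ext ?_
  ext i j
  fin_cases i <;> fin_cases j <;>
    simp [SLTwoRel.coe_rot, SLTwoRel.coe_tri, Matrix.mul_apply, Fin.sum_univ_two]

theorem upr_add {F : Type*} [Field F] (a b : F) :
    (SLTwoRel.upr (a + b) : SL(2, F)) = SLTwoRel.upr a * SLTwoRel.upr b := by
  refine Subtype.ext ?_
  ext i j
  fin_cases i <;> fin_cases j <;>
    simp [SLTwoRel.coe_upr, Matrix.mul_apply, Fin.sum_univ_two, add_comm]

namespace STw

variable {D : ChevalleyDatum} {T : Tbl} {F : Type u} [Field F] (X : STw D T F)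

/-- The root elements of an orbit as a homomorphism. -/
noncomputable def uprHom (J : Fin X.tw.norb) : Multiplicative ↥(X.Fd J) →* ↥X.grp :=
  MonoidHom.mk' (fun b => X.phi J (SLTwoRel.upr b.toAdd)) fun a b => by
    rw [← map_mul, ← upr_add]; rfl

/-- The root subgroup of an orbit. -/
noncomputable def XJ (J : Fin X.tw.norb) : Subgroup ↥X.grp := (X.uprHom J).range

/-- The opposite root subgroup of an orbit. -/
noncomputable def YJ (J : Fin X.tw.norb) : Subgroup ↥X.grp := (X.XJ J).map (MulAut.conj (X.n J)).toMonoidHom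

/-- The complement of the root subgroup of an orbit in `U`. -/
noncomputable def VJ (J : Fin X.tw.norb) : Subgroup ↥X.grp := X.U ⊓ X.U.comap (MulAut.conj (X.n J)).toMonoidHom

theorem upr_mem_XJ (J : Fin X.tw.norb) (b : ↥(X.Fd J)) : X.phi J (SLTwoRel.upr b) ∈ X.XJ J :=
  ⟨Multiplicative.ofAdd b, rfl⟩

theorem mem_YJ {J : Fin X.tw.norb} {y : ↥X.grp} : y ∈ X.YJ J ↔ ∃ b, y = X.phi J (SLTwoRel.lwr b) := by
  constructor
  · rintro ⟨_, ⟨b, rfl⟩, rfl⟩
    refine ⟨-b.toAdd, ?_⟩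
    show X.phi J SLTwoRel.rot * X.phi J (SLTwoRel.upr b.toAdd) * (X.phi J SLTwoRel.rot)⁻¹ = _
    rw [← map_inv, ← map_mul, ← map_mul, (Tri.lwr_upr_conj b.toAdd).1]
  · rintro ⟨b, rfl⟩
    refine ⟨_, X.upr_mem_XJ J (-b), ?_⟩
    show X.phi J SLTwoRel.rot * X.phi J (SLTwoRel.upr (-b)) * (X.phi J SLTwoRel.rot)⁻¹ = _
    rw [← map_inv, ← map_mul, ← map_mul, (Tri.lwr_upr_conj (-b)).1, neg_neg]

theorem closure_XY (J : Fin X.tw.norb) :
    Subgroup.closure ((X.XJ J : Set ↥X.grp) ∪ X.YJ J) = (X.phi J).range := by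
  refine le_antisymm ((Subgroup.closure_le _).2 (Set.union_subset ?_ fun y hy => ?_)) ?_
  · rintro _ ⟨b, rfl⟩; exact ⟨_, rfl⟩
  · obtain ⟨b, rfl⟩ := X.mem_YJ.1 hy; exact ⟨_, rfl⟩
  · rw [MonoidHom.range_eq_map, ← SLTwoRel.closure_eq_top, MonoidHom.map_closure, Subgroup.closure_le]
    have hu : ∀ b, X.phi J (SLTwoRel.upr b) ∈ Subgroup.closure ((X.XJ J : Set ↥X.grp) ∪ X.YJ J) := fun b =>
      Subgroup.subset_closure (Or.inl (X.upr_mem_XJ J b))
    rintro _ ⟨g, ⟨b, rfl⟩ | rfl, rfl⟩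
    · exact hu b
    · rw [Tri.rot_eq, map_mul, map_mul]
      exact mul_mem (mul_mem (hu _) (Subgroup.subset_closure (Or.inr (X.mem_YJ.2 ⟨_, rfl⟩)))) (hu _)

theorem n_sq (J : Fin X.tw.norb) : X.n J * X.n J ∈ X.H := by
  rw [n, ← map_mul, rot_sq, X.tri_val J (neg_ne_zero.2 one_ne_zero), Subgroup.mem_subgroupOf]
  exact X.tor_diag J _

theorem n_conj_H (J : Fin X.tw.norb) {h : ↥X.grp} (hh : h ∈ X.H) :
    X.n J * h * (X.n J)⁻¹ ∈ X.H ∧ (X.n J)⁻¹ * h * X.n J ∈ X.H := by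
  simp only [Subgroup.mem_subgroupOf, Subgroup.coe_mul, InvMemClass.coe_inv] at hh ⊢
  exact conj_mem_diag X.cert (X.n_mono J) hh

theorem H_conj_U {h u : ↥X.grp} (hh : h ∈ X.H) (hu : u ∈ X.U) : h * u * h⁻¹ ∈ X.U := by
  simp only [Subgroup.mem_subgroupOf, Subgroup.coe_mul, InvMemClass.coe_inv] at hh hu ⊢
  exact (Subgroup.mem_normalizer_iff.1 (diag_le_normalizer X.cert hh) _).1 hu

theorem mem_XJ {J : Fin X.tw.norb} {g : ↥X.grp} :
    g ∈ X.XJ J ↔ (g : GL D.Idx F) ∈ Pset X.cert (X.tw.base J) := by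
  constructor
  · rintro ⟨b, rfl⟩
    show X.phiGL J (SLTwoRel.upr b.toAdd) ∈ _
    rw [phiGL_upr]
    obtain ⟨r, l, -, hb, -, -, hnd, -, -⟩ :=
      X.simply.orbit_data X.cert X.sok (F := F) X.full X.comb J.2
    rw [hb]
    obtain ⟨t, ht, -⟩ := orbEl_mem_pset X.cert X.f (r :: l) (b.toAdd : F) hnd
    exact ⟨t, ht⟩
  · intro hg
    have h1 : (g : GL D.Idx F) ∈ twFixPart X.cert (twSigma X.sok X.f) (X.tw.base J) := ⟨hg, g.2.2⟩
    rw [X.simply.fixPart_eq X.cert X.sok X.f X.full X.comb J.2] at h1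
    obtain ⟨v, hv, e⟩ := h1
    refine ⟨Multiplicative.ofAdd ⟨v, hv⟩, Subtype.ext ?_⟩
    show X.phiGL J (SLTwoRel.upr ⟨v, hv⟩) = _
    rw [phiGL_upr, e]

theorem H_conj_XJ (J : Fin X.tw.norb) {h x : ↥X.grp} (hh : h ∈ X.H) (hx : x ∈ X.XJ J) :
    h * x * h⁻¹ ∈ X.XJ J := by
  rw [mem_XJ] at hx ⊢
  obtain ⟨χ, hχ⟩ := diag_conj_xg X.cert (show (h : GL D.Idx F) ∈ D.diagonalSubgroup F from hh)
  obtain ⟨t, ht⟩ := hx
  refine ⟨fun r => χ r * t r, ?_⟩
  rw [Subgroup.coe_mul, Subgroup.coe_mul, Subgroup.coe_inv, ht, ← MulAut.conj_apply, lprod, lprod, map_list_prod,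
    List.map_map]
  exact congrArg List.prod (List.map_congr_left fun r hr => (hχ r (X.base_lt J r hr)).2 _)

theorem H_conj_YJ (J : Fin X.tw.norb) {h y : ↥X.grp} (hh : h ∈ X.H) (hy : y ∈ X.YJ J) :
    h * y * h⁻¹ ∈ X.YJ J := by
  obtain ⟨x, hx, rfl⟩ := hy
  refine ⟨_, X.H_conj_XJ J (X.n_conj_H J hh).2 hx, ?_⟩
  show X.n J * _ * (X.n J)⁻¹ = h * (X.n J * x * (X.n J)⁻¹) * h⁻¹
  group

theorem XJ_le_U (J : Fin X.tw.norb) : X.XJ J ≤ X.U := by
  rintro _ ⟨b, rfl⟩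
  exact X.upr_pos J b.toAdd

/-- The word of a product of reflections. -/
noncomputable def wWord (w : List (Fin X.tw.norb)) : List ℕ := w.flatMap (fun J : Fin X.tw.norb => X.tw.lw J.val)

theorem wWord_word (w : List (Fin X.tw.norb)) : IsWord D (X.wWord w) := fun x hx => by
  obtain ⟨J, -, hJ⟩ := List.mem_flatMap.1 hx
  exact X.comb.lw_word J J.2 x hJ

theorem prod_n_val : ∀ w : List (Fin X.tw.norb),
    (((w.map X.n).prod : ↥X.grp) : GL D.Idx F) = wnu X.cert F (X.wWord w)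
  | [] => by simp [wWord, wnu]
  | J :: w => by
    rw [List.map_cons, List.prod_cons, Subgroup.coe_mul, n_val, prod_n_val w, ← wnu_append]
    rfl

theorem mono_H : Subgroup.closure (Set.range X.n ∪ (X.H : Set ↥X.grp)) ≤
    (D.monomialSubgroup F).subgroupOf X.grp := by
  refine (Subgroup.closure_le _).2 (Set.union_subset ?_ fun h hh => diag_le_monomial X.cert hh)
  rintro _ ⟨J, rfl⟩
  exact X.n_mono J

variable [Finite F]

theorem split_U (J : Fin X.tw.norb) {u : ↥X.grp} (hu : u ∈ X.U) :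
    ∃ v ∈ X.VJ J, ∃ x ∈ X.XJ J, u = v * x := by
  classical
  obtain ⟨e, he, hl⟩ := X.comb.exists_long_elt X.cert X.full
  obtain ⟨nL, hnL, hdL⟩ := X.ok.exists_fixed_rep X.cert X.comb he
  have hev := nroots_even X.cert
  set w := X.tw.eword e with hwdef
  have hw : IsWord D w := X.comb.eword_word X.cert he
  have hwJ := X.comb.lw_word J J.2
  have hpJ : ∀ {r : ℕ}, r < D.nroots → wperm T (X.tw.lw J) r < D.nroots := fun hr => wperm_lt X.cert hwJ hr
  set A := (X.tw.classes.flatMap (X.tw.cls T)).filter fun r => decide (r ∉ X.tw.base J) with hA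
  have hAmem : ∀ r, r ∈ A ↔ r < D.nroots ∧ D.nroots ≤ 2 * r ∧ r ∉ X.tw.base J := fun r => by
    simp only [hA, List.mem_filter, decide_eq_true_eq]
    exact ⟨fun ⟨h1, h2⟩ => ⟨(X.comb.class_pos r h1).1, (X.comb.class_pos r h1).2, h2⟩,
      fun ⟨h1, h2, h3⟩ => ⟨X.comb.exists_class X.cert h1 h2, h3⟩⟩
  have hnd : (A ++ X.tw.base J).Nodup := List.nodup_append.2
    ⟨X.comb.class_nodup.filter _, X.comb.base_nodup J J.2, fun a ha b hb hab => ((hAmem a).1 ha).2.2 (hab ▸ hb)⟩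
  have hbpos : ∀ r ∈ X.tw.base J, D.nroots ≤ 2 * r := fun r hr =>
    ((X.comb.base_neg J J.2 r (X.base_lt J r hr)).1 hr).1
  have hlist : ∀ r ∈ A ++ X.tw.base J, D.nroots / 2 ≤ r ∧ r < D.nroots := by
    intro r hr
    rcases List.mem_append.1 hr with h | h
    · obtain ⟨h1, h2, -⟩ := (hAmem r).1 h; omega
    · have := hbpos r h; have := X.base_lt J r h; omega
  have hflip : ∀ {r}, r < D.nroots → D.nroots ≤ 2 * r → r ∉ X.tw.base J →
      D.nroots ≤ 2 * wperm T (X.tw.lw J) r := fun {r} h1 h2 h3 => by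
    by_contra h
    exact h3 ((X.comb.base_neg J J.2 r h1).2 ⟨h2, not_le.1 h⟩)
  have hSA : TwStable X.cert (twSigma X.sok X.f) A := by
    have hneg : ∀ r, r ∈ A ↔ r ∈ negSet D T (w ++ X.tw.lw J) := fun r => by
      rw [hAmem, mem_negSet, wperm_append]
      constructor
      · rintro ⟨h1, h2, h3⟩
        exact ⟨h1, h2, hl _ (hpJ h1) (hflip h1 h2 h3)⟩
      · rintro ⟨h1, h2, h3⟩
        refine ⟨h1, h2, fun hb => ?_⟩
        obtain ⟨-, h4⟩ := (X.comb.base_neg J J.2 r h1).1 hb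
        have hr' := hpJ h1
        have h5 := hl _ (X.cert.spec.neg_lt _ hr') (by rw [X.cert.neg_eq hr']; omega)
        rw [wperm_neg X.cert hw hr', X.cert.neg_eq (wperm_lt X.cert hw hr')] at h5
        omega
    have hnw : (wnu X.cert F (w ++ X.tw.lw J))⁻¹ * (nL * (X.n J : GL D.Idx F)) ∈ D.diagonalSubgroup F := by
      rw [wnu_append, n_val]
      have h := (conj_mem_diag X.cert (wnu_mem X.cert (F := F) hwJ) hdL).2
      simpa [mul_assoc] using h
    have hnd' : A.Nodup := X.comb.class_nodup.filter _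
    intro g hg
    rw [pset_eq_signPart X.cert X.full (hw.append hwJ) hnd' hneg] at hg ⊢
    exact X.ok.map_signPart' X.cert X.full X.comb (hw.append hwJ) (mul_mem hnL (X.n J).2) hnw hg
  have huP : (u : GL D.Idx F) ∈ twFixPart X.cert (twSigma X.sok X.f) (A ++ X.tw.base J) := by
    refine ⟨(pset_eq_signPart X.cert X.full hw hnd fun r => ⟨fun hr => ?_, fun hr => ?_⟩).2 ?_, u.2.2⟩
    · obtain ⟨h1, h2⟩ := hlist r hr
      exact mem_negSet.2 ⟨h2, by omega, hl r h2 (by omega)⟩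
    · obtain ⟨h1, h2, -⟩ := mem_negSet.1 hr
      by_cases hb : r ∈ X.tw.base J
      · exact List.mem_append_right _ hb
      · exact List.mem_append_left _ ((hAmem r).2 ⟨h1, h2, hb⟩)
    · refine (Subgroup.closure_le _).2 ?_
        (posUnipotent_eq X.cert (F := F) ▸ hu : (u : GL D.Idx F) ∈ upper X.cert F (D.nroots / 2))
      rintro x ⟨r, t, h1, h2, rfl⟩
      exact xg_mem_signPart X.cert X.full h1 h2 (by simpa using hl r h2 (by omega)) t
  obtain ⟨a, ha, b, hb, e'⟩ := X.ok.fixed_split X.cert X.full X.comb hnd hlist hSA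
    (X.ok.stable_base X.cert X.full X.comb J.2) huP
  have hposA : ∀ r ∈ A, D.nroots / 2 ≤ r := fun r hr => (hlist r (List.mem_append_left _ hr)).1
  have haG : a ∈ X.grp := ⟨pos_le_group X.cert (pset_pos X.cert hposA ha.1), ha.2⟩
  have hbG : b ∈ X.grp :=
    ⟨pos_le_group X.cert (pset_pos X.cert (fun r hr => (hlist r (List.mem_append_right _ hr)).1) hb.1), hb.2⟩
  refine ⟨⟨a, haG⟩, Subgroup.mem_inf.2 ⟨pset_pos X.cert hposA ha.1, ?_⟩, ⟨b, hbG⟩, X.mem_XJ.2 hb.1, Subtype.ext e'⟩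
  show (X.n J : GL D.Idx F) * a * (X.n J : GL D.Idx F)⁻¹ ∈ D.posUnipotent F
  refine pset_pos X.cert (fun r hr => ?_)
    ((mono_conj_pset X.cert hwJ (X.n_spec J) fun r hr => ((hAmem r).1 hr).1).1 ha.1)
  obtain ⟨s, hs, rfl⟩ := List.mem_map.1 hr
  obtain ⟨h1, h2, h3⟩ := (hAmem s).1 hs
  have := hflip h1 h2 h3
  omega

theorem monomial_form {g : ↥X.grp} (hg : (g : GL D.Idx F) ∈ D.monomialSubgroup F) :
    ∃ e < X.tw.elts.length, (wnu X.cert F (X.tw.eword e))⁻¹ * (g : GL D.Idx F) ∈ D.diagonalSubgroup F := by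
  obtain ⟨e, he, hall⟩ := X.ok.bruhat_fixed X.cert X.full X.comb g.2
  obtain ⟨m, hm, hmd⟩ := X.ok.exists_fixed_rep X.cert X.comb he
  obtain ⟨b, hb, c, hc, eg⟩ := hall m hm hmd
  have hmono : m ∈ D.monomialSubgroup F := by
    have := mul_mem (wnu_mem X.cert (F := F) (X.comb.eword_word X.cert he)) (diag_le_monomial X.cert hmd)
    rwa [mul_inv_cancel_left] at this
  have hd := cells_disjoint X.cert X.full hb.1 (one_mem _) hmono hg
    (signPart_le_borel X.cert X.full _ true hc.1) (one_mem _) (by rw [one_mul, mul_one]; exact eg.symm)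
  refine ⟨e, he, ?_⟩
  have := mul_mem hmd hd
  rwa [mul_assoc, mul_inv_cancel_left] at this

theorem dich {g : ↥X.grp} (hg : (g : GL D.Idx F) ∈ D.monomialSubgroup F) (J : Fin X.tw.norb) :
    (∀ x ∈ X.XJ J, g * x * g⁻¹ ∈ X.U) ∨ ∀ y ∈ X.YJ J, g * y * g⁻¹ ∈ X.U := by
  obtain ⟨e, he, hd⟩ := X.monomial_form hg
  have hw := X.comb.eword_word X.cert he
  have hi := X.comb.eword_inv X.cert he
  have hev := nroots_even X.cert
  have hs : ∀ r ∈ X.tw.base J, (D.nroots ≤ 2 * wperm T (X.tw.eword e) (T.simp' (X.tw.head J)) ↔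
      D.nroots ≤ 2 * wperm T (X.tw.eword e) r) := fun r hr =>
    X.comb.orb_sign X.cert X.full hw hi J.2 (X.comb.head_mem (τ := X.tw) J.2) hr (X.base_lt J r hr)
  by_cases hp : D.nroots ≤ 2 * wperm T (X.tw.eword e) (T.simp' (X.tw.head J))
  · refine Or.inl fun x hx => ?_
    show (g : GL D.Idx F) * (x : GL D.Idx F) * (g : GL D.Idx F)⁻¹ ∈ D.posUnipotent F
    refine pset_pos X.cert (fun r hr => ?_) ((mono_conj_pset X.cert hw hd (X.base_lt J)).1 (X.mem_XJ.1 hx))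
    obtain ⟨s, hs', rfl⟩ := List.mem_map.1 hr
    have := (hs s hs').1 hp
    omega
  · refine Or.inr fun y hy => ?_
    obtain ⟨b, rfl⟩ := X.mem_YJ.1 hy
    show (g : GL D.Idx F) * X.phiGL J (SLTwoRel.lwr b) * (g : GL D.Idx F)⁻¹ ∈ D.posUnipotent F
    have hlt : ∀ r ∈ (X.tw.base J).map T.neg, r < D.nroots := fun r hr => by
      obtain ⟨s, hs', rfl⟩ := List.mem_map.1 hr
      exact X.cert.spec.neg_lt s (X.base_lt J s hs')
    have hnd : ((X.tw.base J).map T.neg).Nodup := (X.comb.base_nodup J J.2).map_on fun a ha b hb h => by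
      rw [← X.cert.spec.neg_neg a (X.base_lt J a ha), h, X.cert.spec.neg_neg b (X.base_lt J b hb)]
    obtain ⟨t, ht, -⟩ := orbEl_mem_pset X.cert X.f ((X.tw.base J).map T.neg) (b : F) hnd
    rw [phiGL_lwr, ht]
    refine pset_pos X.cert (fun r hr => ?_) ((mono_conj_pset X.cert hw hd hlt).1 ⟨t, rfl⟩)
    obtain ⟨r', hr', rfl⟩ := List.mem_map.1 hr
    obtain ⟨s, hs', rfl⟩ := List.mem_map.1 hr'
    have hsl := X.base_lt J s hs'
    rw [wperm_neg X.cert hw hsl, X.cert.neg_eq (wperm_lt X.cert hw hsl)]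
    have := mt (hs s hs').2 hp
    have := wperm_lt X.cert hw hsl
    omega

/-- The relation data between two orbits: an element carrying one orbit to another. -/
theorem rel_of_perm (w : List (Fin X.tw.norb)) (a b : Fin X.tw.norb)
    (hab : ∀ r ∈ X.tw.base a, wperm T (X.wWord w) r ∈ X.tw.base b)
    (hba : ∀ r ∈ X.tw.base b, r ∈ (X.tw.base a).map (wperm T (X.wWord w)))
    (hbr : ∀ k < D.rank, wperm T (X.tw.lw b ++ X.wWord w) (T.simp' k) =
      wperm T (X.wWord w ++ X.tw.lw a) (T.simp' k)) :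
    (∀ x ∈ (X.XJ a : Set ↥X.grp) ∪ X.YJ a,
      (w.map X.n).prod * x * ((w.map X.n).prod)⁻¹ ∈ (X.XJ b : Set ↥X.grp) ∪ X.YJ b) ∧
    (w.map X.n).prod * X.n a * ((w.map X.n).prod)⁻¹ * (X.n b)⁻¹ ∈ X.H := by
  set g := (w.map X.n).prod with hg
  have hgv : (g : GL D.Idx F) = wnu X.cert F (X.wWord w) := X.prod_n_val w
  have hW := X.wWord_word w
  have hd := same_of_perm X.cert X.full (F := F) ((X.comb.lw_word b b.2).append hW)
    (hW.append (X.comb.lw_word a a.2)) hbr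
  have hH : g * X.n a * g⁻¹ * (X.n b)⁻¹ ∈ X.H := by
    have h2 := (conj_mem_diag X.cert (wnu_mem X.cert (F := F) ((X.comb.lw_word b b.2).append hW)) hd).1
    simp only [Subgroup.mem_subgroupOf, Subgroup.coe_mul, InvMemClass.coe_inv, n_val, hgv]
    rw [wnu_append, wnu_append] at h2
    simpa [mul_assoc, _root_.mul_inv_rev] using h2
  have hx : ∀ x ∈ X.XJ a, g * x * g⁻¹ ∈ X.XJ b := by
    intro x hx
    have hgd : (wnu X.cert F (X.wWord w))⁻¹ * (g : GL D.Idx F) ∈ D.diagonalSubgroup F := by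
      rw [hgv, inv_mul_cancel]; exact one_mem _
    have h1 := (mono_conj_pset X.cert hW hgd (X.base_lt a)).1 (X.mem_XJ.1 hx)
    rw [mem_XJ, X.ok.base_mem_signPart X.cert X.full X.comb b.2]
    refine (pset_eq_signPart X.cert X.full (X.comb.lw_word b b.2) ?_ fun r => ?_).1 h1
    · exact (X.comb.base_nodup a a.2).map_on fun r hr s hs e =>
        wperm_inj X.cert hW (X.base_lt a r hr) (X.base_lt a s hs) e
    · constructor
      · intro hr
        obtain ⟨s, hs, rfl⟩ := List.mem_map.1 hr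
        have hb := X.base_lt b _ (hab s hs)
        exact mem_negSet.2 ⟨hb, (X.comb.base_neg b b.2 _ hb).1 (hab s hs)⟩
      · intro hr
        obtain ⟨h1, h2⟩ := mem_negSet.1 hr
        exact hba r ((X.comb.base_neg b b.2 r h1).2 h2)
  refine ⟨?_, hH⟩
  rintro y (hy | hy)
  · exact Or.inl (hx y hy)
  · obtain ⟨x, hx', rfl⟩ := hy
    refine Or.inr ?_
    have h1 : X.n b * (g * x * g⁻¹) * (X.n b)⁻¹ ∈ X.YJ b := ⟨_, hx x hx', rfl⟩
    have h2 := X.H_conj_YJ b hH h1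
    show g * (X.n a * x * (X.n a)⁻¹) * g⁻¹ ∈ X.YJ b
    convert h2 using 1
    group

theorem exists_toW (h1 : 0 < X.tw.norb) (M : CoxeterMatrix (Fin X.tw.norb))
    (hM : chkCox T (fun i : Fin X.tw.norb => X.tw.lw i) (fun i j => M i j) = true) :
    ∃ φ : ↥(Subgroup.closure (Set.range X.n ∪ (X.H : Set ↥X.grp))) →* M.Group,
      (∀ i, φ ⟨X.n i, Subgroup.subset_closure (Or.inl ⟨i, rfl⟩)⟩ = M.simple i) ∧
      ∀ h, ∀ hh : h ∈ X.H, φ ⟨h, Subgroup.subset_closure (Or.inr hh)⟩ = 1 := by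
  classical
  obtain ⟨P, n', hB, hN, hS, hinj, hn', -⟩ :=
    X.ok.exists_bnPair' X.cert X.full X.comb X.linked h1 X.gen.hne
  have hT : ∀ x : ↥X.grp, x ∈ P.N → (x ∈ P.B ↔ (x : GL D.Idx F) ∈ D.diagonalSubgroup F) := by
    intro x hx
    rw [hN, Subgroup.mem_subgroupOf] at hx
    rw [hB, Subgroup.mem_subgroupOf, ← borel_inf_monomial X.cert]
    exact ⟨fun h => ⟨h.1, hx.1⟩, fun h => ⟨h.1, x.2⟩⟩
  haveI : ((P.B ⊓ P.N).subgroupOf P.N).Normal :=
    ⟨fun t ht g => ⟨P.conj_mem _ g.2 _ ⟨ht.1, t.2⟩, (g * t * g⁻¹).2⟩⟩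
  let eS : Fin X.tw.norb ≃ P.S := (Equiv.ofInjective n' hinj).trans (Equiv.setCongr hS.symm)
  obtain ⟨cs, hcs⟩ := exists_coxeter_of_chk X.cert X.full P M (fun i => X.tw.lw i)
    (fun i => X.comb.lw_word _ i.2) eS (fun i => hn' i) hT hM
  have hle : Subgroup.closure (Set.range X.n ∪ (X.H : Set ↥X.grp)) ≤ P.N := by
    rw [hN]
    exact fun g hg => Subgroup.mem_subgroupOf.2 ⟨X.mono_H hg, g.2⟩
  refine ⟨cs.mulEquiv.toMonoidHom.comp ((QuotientGroup.mk' _).comp (Subgroup.inclusion hle)), fun i => ?_,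
    fun h hh => ?_⟩
  · have hmem : X.n i ∈ P.N := hle (Subgroup.subset_closure (Or.inl ⟨i, rfl⟩))
    have h : cs.simple i = QuotientGroup.mk (⟨X.n i, hmem⟩ : ↥P.N) := by
      rw [hcs]
      refine QuotientGroup.eq.2 ?_
      rw [Subgroup.mem_subgroupOf, Subgroup.mem_inf]
      refine ⟨?_, Subtype.prop _⟩
      rw [hT _ (Subtype.prop _)]
      show ((n' i : GL D.Idx F))⁻¹ * (X.n i : GL D.Idx F) ∈ D.diagonalSubgroup F
      have := mul_mem (inv_mem (hn' i)) (X.n_spec i)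
      simpa [mul_assoc] using this
    show cs.mulEquiv (QuotientGroup.mk (⟨X.n i, hmem⟩ : ↥P.N)) = _
    rw [← h]
    exact cs.mulEquiv.apply_symm_apply _
  · show cs.mulEquiv (QuotientGroup.mk (⟨h, hle (Subgroup.subset_closure (Or.inr hh))⟩ : ↥P.N)) = 1
    rw [MulEquiv.map_eq_one_iff, QuotientGroup.eq_one_iff, Subgroup.mem_subgroupOf, Subgroup.mem_inf]
    exact ⟨(hT _ (Subtype.prop _)).2 hh, Subtype.prop _⟩

theorem gen_top : Subgroup.closure ((X.U : Set ↥X.grp) ∪ Set.range X.n) = ⊤ := by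
  rw [eq_top_iff]
  rintro g -
  set W := Subgroup.closure ((X.U : Set ↥X.grp) ∪ Set.range X.n)
  have hle : X.grp ≤ W.map X.grp.subtype := by
    show X.ok.fixed X.cert ≤ _
    rw [X.simply.fixed_eq_closure X.cert X.sok X.f X.full X.comb X.linked X.hZ, Subgroup.closure_le]
    rintro g ⟨J, hJ, v, hv, hg⟩
    set J' : Fin X.tw.norb := ⟨J, hJ⟩
    have hu : ∀ b, X.phi J' (SLTwoRel.upr b) ∈ W := fun b =>
      Subgroup.subset_closure (Or.inl (X.XJ_le_U J' (X.upr_mem_XJ J' b)))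
    rcases hg with rfl | rfl
    · exact ⟨_, hu ⟨v, hv⟩, X.phiGL_upr J' _⟩
    · refine ⟨X.n J' * X.phi J' (SLTwoRel.upr (-⟨v, hv⟩)) * (X.n J')⁻¹,
        mul_mem (mul_mem (Subgroup.subset_closure (Or.inr ⟨J', rfl⟩)) (hu _))
          (inv_mem (Subgroup.subset_closure (Or.inr ⟨J', rfl⟩))), ?_⟩
      rw [n, ← map_inv, ← map_mul, ← map_mul, (Tri.lwr_upr_conj _).1, neg_neg]
      exact X.phiGL_lwr J' _
  obtain ⟨g', hg', e⟩ := hle g.2
  rwa [show g = g' from Subtype.ext e.symm]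

variable (p : ℕ) [Fact p.Prime] [CharP F p]

/-- The structure of rank one subgroups. -/
noncomputable def rankN (h1 : 0 < X.tw.norb) (M : CoxeterMatrix (Fin X.tw.norb))
    (hM : chkCox T (fun i : Fin X.tw.norb => X.tw.lw i) (fun i j => M i j) = true)
    (hrel : ∀ i j, i ≠ j → ∃ (w : List (Fin X.tw.norb)) (a b : Fin X.tw.norb),
      (∀ r ∈ X.tw.base a, wperm T (X.wWord w) r ∈ X.tw.base b) ∧
      (∀ r ∈ X.tw.base b, r ∈ (X.tw.base a).map (wperm T (X.wWord w))) ∧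
      (∀ k < D.rank, wperm T (X.tw.lw b ++ X.wWord w) (T.simp' k) =
        wperm T (X.wWord w ++ X.tw.lw a) (T.simp' k)) ∧
      ∀ {Q : Type u} [Group Q] (x : Fin X.tw.norb → Q), (∀ k, x k * x k = 1) →
        (w.map x).prod * x a * ((w.map x).prod)⁻¹ = x b → (x i * x j) ^ M i j = 1) :
    RankN p ↥X.grp M where
  U := X.U
  H := X.H
  X := X.XJ
  Y := X.YJ
  V := X.VJ
  n := X.n
  pgroup := by
    obtain ⟨P, hP⟩ := X.gen.exists_sylowT p
    have hU := P.isPGroup'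
    rw [hP] at hU
    exact hU
  conj_U := fun h hh u hu => X.H_conj_U hh hu
  conj_X := fun J h hh x hx => X.H_conj_XJ J hh hx
  conj_Y := fun J h hh y hy => X.H_conj_YJ J hh hy
  X_le := X.XJ_le_U
  V_le := fun J => inf_le_left
  n_X := fun J x hx => ⟨x, hx, rfl⟩
  n_Y := fun J y hy => by
    obtain ⟨x, hx, rfl⟩ := hy
    show X.n J * (X.n J * x * (X.n J)⁻¹) * (X.n J)⁻¹ ∈ X.XJ J
    rw [show X.n J * (X.n J * x * (X.n J)⁻¹) * (X.n J)⁻¹ =
      (X.n J * X.n J) * x * (X.n J * X.n J)⁻¹ by group]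
    exact X.H_conj_XJ J (X.n_sq J) hx
  n_V := fun J v hv => by
    obtain ⟨hv1, hv2⟩ := Subgroup.mem_inf.1 hv
    refine Subgroup.mem_inf.2 ⟨hv2, ?_⟩
    show X.n J * (X.n J * v * (X.n J)⁻¹) * (X.n J)⁻¹ ∈ X.U
    rw [show X.n J * (X.n J * v * (X.n J)⁻¹) * (X.n J)⁻¹ =
      (X.n J * X.n J) * v * (X.n J * X.n J)⁻¹ by group]
    exact X.H_conj_U (X.n_sq J) hv1
  n_H := fun J h hh => (X.n_conj_H J hh).1
  n_sq := X.n_sq
  n_mem := fun J => by rw [closure_XY]; exact ⟨_, rfl⟩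
  split_U := fun J u hu => X.split_U J hu
  dec := fun J y hy => by
    obtain ⟨b, rfl⟩ := X.mem_YJ.1 hy
    rcases eq_or_ne b 0 with rfl | hb
    · refine ⟨1, one_mem _, 1, one_mem _, Or.inl ?_⟩
      rw [show SLTwoRel.lwr (0 : ↥(X.Fd J)) = 1 from Subtype.ext (by
        ext i j; fin_cases i <;> fin_cases j <;> simp [Tri.coe_lwr]), map_one, one_mul]
    · refine ⟨_, X.upr_mem_XJ J b⁻¹, X.tor J (Units.mk0 (-b⁻¹) (neg_ne_zero.2 (inv_ne_zero hb))), X.tor_diag J _,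
        Or.inr ⟨_, X.upr_mem_XJ J b⁻¹, ?_⟩⟩
      conv_lhs => rw [Tri.lwr_dec hb, map_mul, map_mul, map_mul]
      rfl
  dich := fun g hg J => by
    rcases X.dich (g := g⁻¹) (inv_mem (X.mono_H hg) : g⁻¹ ∈ (D.monomialSubgroup F).subgroupOf X.grp) J with h | h
    · exact Or.inl fun x hx => by simpa using h x hx
    · exact Or.inr fun y hy => by simpa using h y hy
  H_comm := fun a ha b hb => Subtype.ext (diag_comm X.cert ha hb)
  N_meet := fun g hg hU => Subtype.ext ((Subgroup.eq_bot_iff_forall _).1 (pos_inf_monomial X.cert) _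
    (Subgroup.mem_inf.2 ⟨hU, X.mono_H hg⟩))
  rel := fun i j hij => by
    obtain ⟨w, a, b, h2, h3, h4, h5⟩ := hrel i j hij
    obtain ⟨h6, h7⟩ := X.rel_of_perm w a b h2 h3 h4
    exact ⟨w, a, b, h6, h7, h5⟩
  toW := (X.exists_toW h1 M hM).choose
  toW_n := (X.exists_toW h1 M hM).choose_spec.1
  toW_H := (X.exists_toW h1 M hM).choose_spec.2
  gen := X.gen_top

/-- The orbit field has characteristic `p`. -/
theorem charP_Fd (J : Fin X.tw.norb) : CharP ↥(X.Fd J) p := (X.Fd J).subtype.charP Subtype.val_injective p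

/-- The rank one subgroup as a special linear group. -/
noncomputable def LIso (hsep : X.Sep) (J : Fin X.tw.norb) :
    ↥(Subgroup.closure ((X.XJ J : Set ↥X.grp) ∪ X.YJ J)) ≃* SL(2, ↥(X.Fd J)) :=
  (MulEquiv.subgroupCongr (X.closure_XY J)).trans (MonoidHom.ofInjective (X.phi_injective hsep J)).symm

/-- A rank one subgroup has no stem extensions of prime kernel off `p`. -/
theorem L_noStem (J : Fin X.tw.norb) (r : ℕ) (hr : r.Prime) (hrp : r ≠ p) : NoStemPrime r SL(2, ↥(X.Fd J)) := by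
  haveI : Fintype ↥(X.Fd J) := Fintype.ofFinite _
  haveI := X.charP_Fd p J
  exact noStem_sl_two (p := p) hr hrp

/-- The torus of an orbit covers the diagonal part of its rank one subgroup. -/
theorem L_inf_H (J : Fin X.tw.norb) :
    Subgroup.closure ((X.XJ J : Set ↥X.grp) ∪ X.YJ J) ⊓ X.H ≤ (X.tor J).range := by
  rintro g ⟨hg, hH⟩
  rw [SetLike.mem_coe, closure_XY] at hg
  obtain ⟨s, rfl⟩ := hg
  obtain ⟨u, hu⟩ := X.phi_diag J hH
  exact ⟨u, hu.symm⟩

theorem tor_mem_L (J : Fin X.tw.norb) (u : (↥(X.Fd J))ˣ) :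
    X.tor J u ∈ Subgroup.closure ((X.XJ J : Set ↥X.grp) ∪ X.YJ J) ⊓ X.H := by
  refine Subgroup.mem_inf.2 ⟨?_, X.tor_diag J u⟩
  rw [closure_XY]
  exact ⟨_, rfl⟩

/-- The product of the orbit tori. -/
noncomputable def torAll : (∀ J : Fin X.tw.norb, (↥(X.Fd J))ˣ) →* ↥X.grp :=
  MonoidHom.noncommPiCoprod X.tor fun _ _ _ a b =>
    Subtype.ext (diag_comm X.cert (X.tor_diag _ a) (X.tor_diag _ b))

theorem torAll_single (J : Fin X.tw.norb) (u : (↥(X.Fd J))ˣ) : X.torAll (Pi.mulSingle J u) = X.tor J u :=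
  MonoidHom.noncommPiCoprod_mulSingle X.tor J u

/-- The parameters of the product of the orbit tori. -/
noncomputable def parAll : (∀ J : Fin X.tw.norb, (↥(X.Fd J))ˣ) →* (Fin D.rank → Fˣ) :=
  MonoidHom.mk' (fun y => ∏ J, X.par J (y J)) fun a b => by
    simp only [Pi.mul_apply, map_mul, Finset.prod_mul_distrib]

theorem torAll_val (y : ∀ J : Fin X.tw.norb, (↥(X.Fd J))ˣ) :
    (X.torAll y : GL D.Idx F) = torusHom D T F (X.parAll y) := by
  have h : X.grp.subtype.comp X.torAll = (torusHom D T F).comp X.parAll := MonoidHom.pi_ext fun i u => by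
    show (X.torAll (Pi.mulSingle i u) : GL D.Idx F) = torusHom D T F (∏ J, X.par J (Pi.mulSingle (M := fun J => (↥(X.Fd J))ˣ) i u J))
    rw [torAll_single, tor_val, Finset.prod_eq_single i]
    · rw [Pi.mulSingle_eq_same]
    · intro J _ hJ
      rw [Pi.mulSingle_eq_of_ne hJ, map_one]
    · intro h; exact absurd (Finset.mem_univ i) h
  exact DFunLike.congr_fun h y

/-- The kernel of a stem extension of order prime to `p` divides that of the product of the orbit tori. -/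
theorem cross_dvd (h1 : 0 < X.tw.norb) (M : CoxeterMatrix (Fin X.tw.norb))
    (hM : chkCox T (fun i : Fin X.tw.norb => X.tw.lw i) (fun i j => M i j) = true)
    (hrel : ∀ i j, i ≠ j → ∃ (w : List (Fin X.tw.norb)) (a b : Fin X.tw.norb),
      (∀ r ∈ X.tw.base a, wperm T (X.wWord w) r ∈ X.tw.base b) ∧
      (∀ r ∈ X.tw.base b, r ∈ (X.tw.base a).map (wperm T (X.wWord w))) ∧
      (∀ k < D.rank, wperm T (X.tw.lw b ++ X.wWord w) (T.simp' k) =
        wperm T (X.wWord w ++ X.tw.lw a) (T.simp' k)) ∧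
      ∀ {Q : Type u} [Group Q] (x : Fin X.tw.norb → Q), (∀ k, x k * x k = 1) →
        (w.map x).prod * x a * ((w.map x).prod)⁻¹ = x b → (x i * x j) ^ M i j = 1)
    (hsep : X.Sep) {Γ : Type u} [Group Γ] [Finite Γ] (σ : Γ →* ↥X.grp) (hσ : Cfsg.IsStemExtension σ)
    (hcop : (Nat.card σ.ker).Coprime p) : Nat.card σ.ker ∣ Nat.card X.torAll.ker := by
  classical
  obtain ⟨hs, hc, hle⟩ := hσ
  let R := X.rankN p h1 M hM hrel
  have hL : ∀ i, R.liftL σ i ⊓ σ.ker = ⊥ := fun i =>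
    R.liftL_meet hs hc hcop (X.LIso hsep i) fun r hr hrp => X.L_noStem p i r hr hrp
  exact R.card_ker_dvd hs hc hcop hL hle X.tor X.tor_mem_L X.L_inf_H X.torAll X.torAll_single

end STw

end Cfsg.Lib.Chev.TwMult
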