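import Cfsg.Agent.Lib.Chev.TwMult.Simply.Orbit
import Cfsg.Agent.Lib.Chev.TwGenNorm
import Cfsg.Agent.Lib.Chev.TwGenCell

/-!
A simply laced twisted group with its orbit root groups, rank one homomorphisms and torus.
-/

set_option autoImplicit false
set_option linter.unusedSectionVars false

namespace Cfsg.Lib.Chev.TwMult

open Cfsg.Lie
open scoped MatrixGroups

/-- The data of a simply laced twisted group. -/
structure STw (D : ChevalleyDatum) (T : Tbl) (F : Type*) [Field F] where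
  tw : TwData
  sym : Sym
  k : ℕ
  cert : Cert D T
  full : FullCert D T
  sok : SymOK D T sym
  comb : TwComb D T tw
  simply : TwSimplyOK D T sym tw k
  linked : TwLinked D T tw
  f : F →+* F
  per : ∀ t, f^[k] t = t
  hZ : ∀ c : Fin D.rank → Fˣ, (twPar sok f c)⁻¹ * c ∈ (torusHom D T F).ker →
    ∃ z ∈ (torusHom D T F).ker, twPar sok f (c * z) = c * z

namespace STw

variable {D : ChevalleyDatum} {T : Tbl} {F : Type*} [Field F] (X : STw D T F)

theorem ok : TwOK X.cert X.tw (twSigma X.sok X.f) := X.simply.twOK X.cert X.sok X.f X.full X.comb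

/-- The group. -/
noncomputable abbrev grp : Subgroup (GL D.Idx F) := X.ok.fixed X.cert

/-- The field of an orbit. -/
noncomputable abbrev Fd (J : Fin X.tw.norb) : Subfield F := fxField X.f (X.tw.orb J).length

theorem base_lt (J : Fin X.tw.norb) : ∀ r ∈ X.tw.base J, r < D.nroots := X.comb.base_lt J J.2

theorem base_pairwise (J : Fin X.tw.norb) : (X.tw.base J).Pairwise (PairComm X.cert F) := by
  obtain ⟨r, l, -, hb, -, -, -, -, hp⟩ := X.simply.orbit_data X.cert X.sok (F := F) X.full X.comb J.2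
  rw [hb]; exact hp

/-- The homomorphism of an orbit into the general linear group. -/
noncomputable def phiGL (J : Fin X.tw.norb) : SL(2, ↥(X.Fd J)) →* GL D.Idx F :=
  MonoidHom.mk' (fun g => orbFun X.cert X.f (X.tw.base J) (Matrix.SpecialLinearGroup.map (X.Fd J).subtype g))
    fun a b => by rw [map_mul]; exact orbFun_mul X.cert X.f _ _ _ (X.base_lt J) (X.base_pairwise J)

theorem phiGL_upr (J : Fin X.tw.norb) (b : ↥(X.Fd J)) :
    X.phiGL J (SLTwoRel.upr b) = orbEl X.cert X.f (X.tw.base J) (b : F) := by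
  show orbFun X.cert X.f _ _ = _
  rw [map_upr]; exact orbFun_upr X.cert X.f _ _ (X.base_lt J)

theorem phiGL_lwr (J : Fin X.tw.norb) (b : ↥(X.Fd J)) :
    X.phiGL J (SLTwoRel.lwr b) = orbEl X.cert X.f ((X.tw.base J).map T.neg) (b : F) := by
  show orbFun X.cert X.f _ _ = _
  rw [map_lwr]; exact orbFun_lwr X.cert X.f _ _ (X.base_lt J)

theorem phiGL_rot (J : Fin X.tw.norb) :
    X.phiGL J SLTwoRel.rot = wnu X.cert F (X.tw.lw J) := by
  show orbFun X.cert X.f _ _ = _
  rw [map_rot, orbFun_rot X.cert X.f _ (X.base_lt J), X.simply.base_eq J J.2, nGen_one, X.simply.lw_eq J J.2]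

theorem upr_fixed (J : Fin X.tw.norb) (b : ↥(X.Fd J)) : X.phiGL J (SLTwoRel.upr b) ∈ X.grp := by
  rw [phiGL_upr]
  exact X.simply.gen_le_fixed X.cert X.sok X.f X.full X.comb ⟨J, J.2, b, b.2, Or.inl rfl⟩

theorem lwr_fixed (J : Fin X.tw.norb) (b : ↥(X.Fd J)) : X.phiGL J (SLTwoRel.lwr b) ∈ X.grp := by
  rw [phiGL_lwr]
  exact X.simply.gen_le_fixed X.cert X.sok X.f X.full X.comb ⟨J, J.2, b, b.2, Or.inr rfl⟩

theorem phiGL_mem (J : Fin X.tw.norb) (g : SL(2, ↥(X.Fd J))) : X.phiGL J g ∈ X.grp := by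
  suffices (⊤ : Subgroup SL(2, ↥(X.Fd J))) ≤ X.grp.comap (X.phiGL J) from this (Subgroup.mem_top g)
  rw [← SLTwoRel.closure_eq_top, Subgroup.closure_le]
  rintro _ (⟨b, rfl⟩ | rfl)
  · exact X.upr_fixed J b
  · show X.phiGL J _ ∈ X.grp
    rw [Tri.rot_eq, map_mul, map_mul]
    exact mul_mem (mul_mem (X.upr_fixed J _) (X.lwr_fixed J _)) (X.upr_fixed J _)

/-- The homomorphism of an orbit. -/
noncomputable def phi (J : Fin X.tw.norb) : SL(2, ↥(X.Fd J)) →* ↥X.grp :=
  (X.phiGL J).codRestrict X.grp (X.phiGL_mem J)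

theorem coe_phi (J : Fin X.tw.norb) (g : SL(2, ↥(X.Fd J))) : (X.phi J g : GL D.Idx F) = X.phiGL J g := rfl

/-- The element of a reflection. -/
noncomputable def n (J : Fin X.tw.norb) : ↥X.grp := X.phi J SLTwoRel.rot

theorem n_val (J : Fin X.tw.norb) : (X.n J : GL D.Idx F) = wnu X.cert F (X.tw.lw J) := X.phiGL_rot J

theorem n_spec (J : Fin X.tw.norb) :
    (wnu X.cert F (X.tw.lw J))⁻¹ * (X.n J : GL D.Idx F) ∈ D.diagonalSubgroup F := by
  rw [n_val, inv_mul_cancel]; exact one_mem _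

theorem n_mono (J : Fin X.tw.norb) : (X.n J : GL D.Idx F) ∈ D.monomialSubgroup F := by
  rw [n_val]; exact wnu_mem X.cert (X.comb.lw_word J J.2)

/-- The parameters of the torus of an orbit. -/
noncomputable def par (J : Fin X.tw.norb) : (↥(X.Fd J))ˣ →* (Fin D.rank → Fˣ) :=
  MonoidHom.mk' (fun u => parFun D X.f (X.tw.orb J) (Units.map (X.Fd J).subtype.toMonoidHom u)) fun u v => by
    rw [map_mul]; exact parFun_mul X.f _ _ _

/-- The torus of an orbit. -/
noncomputable def tor (J : Fin X.tw.norb) : (↥(X.Fd J))ˣ →* ↥X.grp :=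
  MonoidHom.mk' (fun u => X.phi J (SLTwoRel.tri (u : ↥(X.Fd J)) 0 u.ne_zero)) fun u v => by
    rw [← map_mul]
    congr 1
    refine Subtype.ext ?_
    ext i j
    fin_cases i <;> fin_cases j <;>
      simp [SLTwoRel.coe_tri, Matrix.mul_apply, Fin.sum_univ_two, mul_comm]

theorem tor_val (J : Fin X.tw.norb) (u : (↥(X.Fd J))ˣ) :
    (X.tor J u : GL D.Idx F) = torusHom D T F (X.par J u) := by
  show orbFun X.cert X.f _ _ = _
  rw [map_tri, X.simply.base_eq J J.2]
  exact orbFun_tri X.cert X.f (X.tw.orb J) (Units.map (X.Fd J).subtype.toMonoidHom u) (X.comb.orb_lt J J.2)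

theorem tri_val (J : Fin X.tw.norb) {a : ↥(X.Fd J)} (ha : a ≠ 0) :
    X.phi J (SLTwoRel.tri a 0 ha) = X.tor J (Units.mk0 a ha) := rfl

theorem tor_diag (J : Fin X.tw.norb) (u : (↥(X.Fd J))ˣ) : (X.tor J u : GL D.Idx F) ∈ D.diagonalSubgroup F := by
  rw [tor_val, ← torusHom_range X.cert]; exact ⟨_, rfl⟩

/-- The torus. -/
noncomputable abbrev H : Subgroup ↥X.grp := (D.diagonalSubgroup F).subgroupOf X.grp

/-- The unipotent subgroup. -/
noncomputable abbrev U : Subgroup ↥X.grp := (D.posUnipotent F).subgroupOf X.grp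

theorem upr_pos (J : Fin X.tw.norb) (b : ↥(X.Fd J)) : X.phiGL J (SLTwoRel.upr b) ∈ D.posUnipotent F := by
  rw [phiGL_upr]
  obtain ⟨r, l, -, hb, -, hpos, hnd, -, -⟩ := X.simply.orbit_data X.cert X.sok (F := F) X.full X.comb J.2
  obtain ⟨t, ht, -⟩ := orbEl_mem_pset X.cert X.f (r :: l) (b : F) hnd
  rw [hb, ht]
  exact lprod_mem_pos X.cert (fun s hs => (hpos s hs).1) t

theorem upr_eq_one (J : Fin X.tw.norb) {b : ↥(X.Fd J)} (h : X.phiGL J (SLTwoRel.upr b) = 1) : b = 0 := by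
  rw [phiGL_upr] at h
  obtain ⟨r, l, -, hb, -, hpos, hnd, -, -⟩ := X.simply.orbit_data X.cert X.sok (F := F) X.full X.comb J.2
  obtain ⟨t, ht, ht'⟩ := orbEl_mem_pset X.cert X.f (r :: l) (b : F) hnd
  rw [hb, ht, ← lprod_zero X.cert (r :: l)] at h
  have := lprod_inj X.cert X.full.comm hnd (fun s hs => ⟨(hpos s hs).1, (hpos s hs).2.1⟩) h r
    (List.mem_cons_self ..)
  rw [ht' r rfl] at this
  exact Subtype.ext this

theorem lw_moves (J : Fin X.tw.norb) : (X.n J : GL D.Idx F) ∉ D.diagonalSubgroup F := fun h => by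
  rw [n_val] at h
  have hh := X.comb.head_mem (τ := X.tw) J.2
  have hi := X.comb.orb_lt J J.2 _ hh
  have hp := X.cert.spec.simp_lt _ hi
  have hb := (X.comb.base_sub J J.2 _ hp).2 ⟨X.full.simple_pos hi, inRootSub_simple X.cert hi hh⟩
  have h2 := (X.comb.base_neg J J.2 _ hp).1 hb
  have hs := perm_of_same (F := F) X.cert (v := []) (fun x hx => absurd hx List.not_mem_nil) (X.comb.lw_word J J.2)
    (by simpa [wnu] using h) hp
  rw [← hs] at h2
  have : wperm T [] (T.simp' (X.tw.head J)) = T.simp' (X.tw.head J) := rfl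
  omega

/-- A diagonal element of a rank one subgroup is in its torus. -/
theorem phi_diag (J : Fin X.tw.norb) {g : SL(2, ↥(X.Fd J))}
    (h : (X.phi J g : GL D.Idx F) ∈ D.diagonalSubgroup F) : ∃ u, X.phi J g = X.tor J u := by
  rcases Tri.sl_form g with ⟨x, a, ha, rfl⟩ | ⟨x, a, y, ha, rfl⟩
  · have h1 : X.phiGL J (SLTwoRel.upr x) ∈ D.posUnipotent F ⊓ D.diagonalSubgroup F := by
      refine Subgroup.mem_inf.2 ⟨X.upr_pos J x, ?_⟩
      have h2 := mul_mem h (inv_mem (X.tor_diag J (Units.mk0 a ha)))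
      rw [map_mul, Subgroup.coe_mul, ← X.tri_val J ha] at h2
      simpa [coe_phi] using h2
    rw [pos_inf_diag X.cert, Subgroup.mem_bot] at h1
    have hx : x = 0 := X.upr_eq_one J h1
    subst hx
    refine ⟨Units.mk0 a ha, ?_⟩
    rw [map_mul, show X.phi J (SLTwoRel.upr 0) = 1 from Subtype.ext h1, one_mul, tri_val]
  · exfalso
    refine X.lw_moves J ?_
    rw [← borel_inf_monomial X.cert]
    refine Subgroup.mem_inf.2 ⟨?_, X.n_mono J⟩
    set A := (X.phi J (SLTwoRel.upr x) * X.tor J (Units.mk0 a ha) : ↥X.grp)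
    have hA : (A : GL D.Idx F) ∈ D.borelSubgroup F :=
      mul_mem (Subgroup.mem_sup_left (X.upr_pos J x)) (Subgroup.mem_sup_right (X.tor_diag J _))
    have hy : (X.phi J (SLTwoRel.upr y) : GL D.Idx F) ∈ D.borelSubgroup F := Subgroup.mem_sup_left (X.upr_pos J y)
    have e : X.n J = A⁻¹ * X.phi J (SLTwoRel.upr x * SLTwoRel.tri a 0 ha * SLTwoRel.rot * SLTwoRel.upr y) *
        (X.phi J (SLTwoRel.upr y))⁻¹ := by
      simp only [A, map_mul, ← tri_val X J ha, n]; group
    rw [e, Subgroup.coe_mul, Subgroup.coe_mul, Subgroup.coe_inv, Subgroup.coe_inv]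
    exact mul_mem (mul_mem (inv_mem hA) (Subgroup.mem_sup_right h)) (inv_mem hy)

/-- A node meeting one root of each orbit. -/
def Sep : Prop :=
  ∀ J : Fin X.tw.norb, ∃ k : Fin D.rank, T.cartan (X.tw.head J) (T.simp' k) = -1 ∧
    ∀ i ∈ (X.tw.orb J).tail, T.cartan i (T.simp' k) = 0

theorem tor_injective (hsep : X.Sep) (J : Fin X.tw.norb) : Function.Injective (X.tor J) := by
  refine (injective_iff_map_eq_one _).2 fun u hu => ?_
  have h1 : torusHom D T F (X.par J u) = 1 := by rw [← X.tor_val J u, hu]; rfl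
  rw [← MonoidHom.mem_ker, torusHom_ker X.cert, MonoidHom.mem_ker] at h1
  obtain ⟨k, hk, hk'⟩ := hsep J
  have h2 := congrFun h1 k
  have hh := X.comb.orb_lt J J.2 _ (X.comb.head_mem (τ := X.tw) J.2)
  have e : X.par J u = parFun D X.f (X.tw.head J :: (X.tw.orb J).tail) (Units.map (X.Fd J).subtype.toMonoidHom u) := by
    rw [← orb_eq_cons X.comb J.2]; rfl
  rw [e, parFun, map_mul, Pi.mul_apply, powHom_parFun_zero X.f k _ _ hk', mul_one, dif_pos hh, powHom_mulSingle] at h2
  rw [show cartanMat D T k ⟨X.tw.head J, hh⟩ = T.cartan (X.tw.head J) (T.simp' k) from rfl, hk, zpow_neg_one,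
    Pi.one_apply, inv_eq_one] at h2
  exact Units.ext (Subtype.ext (congrArg Units.val h2))

theorem phi_injective (hsep : X.Sep) (J : Fin X.tw.norb) : Function.Injective (X.phi J) := by
  refine (injective_iff_map_eq_one _).2 fun g hg => ?_
  rcases Tri.sl_form g with ⟨x, a, ha, rfl⟩ | ⟨x, a, y, ha, rfl⟩
  · have hd : (X.phi J (SLTwoRel.upr x) : GL D.Idx F) ∈ D.posUnipotent F ⊓ D.diagonalSubgroup F := by
      refine Subgroup.mem_inf.2 ⟨X.upr_pos J x, ?_⟩
      rw [map_mul, tri_val] at hg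
      rw [eq_inv_of_mul_eq_one_left hg, Subgroup.coe_inv]
      exact inv_mem (X.tor_diag J _)
    rw [pos_inf_diag X.cert, Subgroup.mem_bot] at hd
    have hx : x = 0 := X.upr_eq_one J hd
    subst hx
    rw [map_mul, show X.phi J (SLTwoRel.upr 0) = 1 from Subtype.ext hd, one_mul, tri_val,
      ← map_one (X.tor J)] at hg
    have ha1 : a = 1 := congrArg Units.val (X.tor_injective hsep J hg)
    refine Subtype.ext ?_
    ext i j
    fin_cases i <;> fin_cases j <;> simp [SLTwoRel.coe_upr, SLTwoRel.coe_tri, ha1, Matrix.mul_apply, Fin.sum_univ_two]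
  · exfalso
    refine X.lw_moves J ?_
    rw [← borel_inf_monomial X.cert]
    refine Subgroup.mem_inf.2 ⟨?_, X.n_mono J⟩
    rw [map_mul, map_mul, map_mul, tri_val] at hg
    have e : X.n J = (X.phi J (SLTwoRel.upr x) * X.tor J (Units.mk0 a ha))⁻¹ * (X.phi J (SLTwoRel.upr y))⁻¹ := by
      rw [n, eq_inv_mul_iff_mul_eq, eq_inv_iff_mul_eq_one]; exact hg
    rw [e, Subgroup.coe_mul, Subgroup.coe_inv, Subgroup.coe_inv, Subgroup.coe_mul]
    exact mul_mem (inv_mem (mul_mem (Subgroup.mem_sup_left (X.upr_pos J x)) (Subgroup.mem_sup_right (X.tor_diag J _))))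
      (inv_mem (Subgroup.mem_sup_left (X.upr_pos J y)))

/-- The twisted group as general twisted data. -/
noncomputable def gen : TwGen D T F where
  tw := X.tw
  sig := twSigma X.sok X.f
  cert := X.cert
  full := X.full
  comb := X.comb
  ok := X.ok
  hne := fun J hJ => by
    refine ⟨orbEl X.cert X.f (X.tw.base J) 1, ?_, fun h => ?_⟩
    · rw [X.simply.fixPart_eq X.cert X.sok X.f X.full X.comb hJ]
      exact ⟨1, iterate_map_one X.f _, rfl⟩
    · have := X.upr_eq_one ⟨J, hJ⟩ (b := 1) (by rw [phiGL_upr]; exact h)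
      exact one_ne_zero this

end STw

end Cfsg.Lib.Chev.TwMult
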