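import Cfsg.Agent.Lib.Chev.StTorus
import Cfsg.Prelude.Def_KGroupFacts

/-!
The derived preimage of a perfect subgroup in a central extension, and commutators of lifted torus elements with
lifted reflection elements.
-/

set_option autoImplicit false
set_option linter.unusedSectionVars false

namespace Cfsg.Lib.Chev.TwMult

open Cfsg.Lie
open scoped commutatorElement

/-- The derived preimage of a perfect subgroup under a map with central kernel is a stem extension. -/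
theorem stem_of_derived_preimage {E G : Type*} [Group E] [Group G] (p : E →* G)
    (hc : p.ker ≤ Subgroup.center E) (W : Subgroup G) (hle : W ≤ p.range) (hW : commutator ↥W = ⊤) :
    ∃ σ : ↥⁅W.comap p, W.comap p⁆ →* ↥W, Cfsg.IsStemExtension σ ∧ ∀ x, (σ x : G) = p x := by
  set P := W.comap p with hP
  have hmem : ∀ x ∈ ⁅P, P⁆, p x ∈ W := fun x hx => Subgroup.commutator_le_self P hx
  let σ : ↥⁅P, P⁆ →* ↥W := (p.comp (⁅P, P⁆).subtype).codRestrict W fun x => hmem x x.2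
  have hmap : (⁅P, P⁆).map p = W := by
    rw [Subgroup.map_commutator, hP, Subgroup.map_comap_eq_self hle]
    refine le_antisymm (Subgroup.commutator_le_self W) fun x hx => ?_
    have h2 : x ∈ (⊤ : Subgroup ↥W).map W.subtype := ⟨⟨x, hx⟩, Subgroup.mem_top _, rfl⟩
    rw [← hW, Subgroup.map_subtype_commutator] at h2
    exact h2
  have hsurj : Function.Surjective σ := fun y => by
    obtain ⟨x, hx, e⟩ : (y : G) ∈ (⁅P, P⁆).map p := hmap.symm ▸ y.2
    exact ⟨⟨x, hx⟩, Subtype.ext e⟩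
  have hperf : commutator ↥⁅P, P⁆ = ⊤ := by
    refine Subgroup.map_injective (Subgroup.subtype_injective _) ?_
    rw [Subgroup.map_subtype_commutator, ← MonoidHom.range_eq_map, Subgroup.range_subtype]
    refine le_antisymm (Subgroup.commutator_le_self _) ((Subgroup.commutator_le).2 fun a ha b hb => ?_)
    obtain ⟨a', ha'⟩ := hsurj ⟨p a, ha⟩
    obtain ⟨b', hb'⟩ := hsurj ⟨p b, hb⟩
    have hpa : p a' = p a := congrArg Subtype.val ha'
    have hpb : p b' = p b := congrArg Subtype.val hb'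
    have hza : (a' : E)⁻¹ * a ∈ Subgroup.center E := hc (by rw [MonoidHom.mem_ker, map_mul, map_inv, hpa, inv_mul_cancel])
    have hzb : (b' : E)⁻¹ * b ∈ Subgroup.center E := hc (by rw [MonoidHom.mem_ker, map_mul, map_inv, hpb, inv_mul_cancel])
    have key : ∀ (x y z : E), z ∈ Subgroup.center E → ⁅x * z, y⁆ = ⁅x, y⁆ ∧ ⁅y, x * z⁆ = ⁅y, x⁆ := by
      intro x y z hz
      have h := Subgroup.mem_center_iff.1 hz
      refine ⟨?_, ?_⟩
      · rw [commutatorElement_def, commutatorElement_def, mul_inv_rev,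
          show x * z * y * (z⁻¹ * x⁻¹) * y⁻¹ = x * (z * y) * z⁻¹ * x⁻¹ * y⁻¹ by group, ← h y]
        group
      · rw [commutatorElement_def, commutatorElement_def, mul_inv_rev,
          show y * (x * z) * y⁻¹ * (z⁻¹ * x⁻¹) = y * x * (z * y⁻¹) * z⁻¹ * x⁻¹ by group, ← h y⁻¹]
        group
    have : ⁅a, b⁆ = ⁅(a' : E), (b' : E)⁆ := by
      rw [show a = (a' : E) * ((a' : E)⁻¹ * a) by group, (key _ _ _ hza).1,
        show b = (b' : E) * ((b' : E)⁻¹ * b) by group, (key _ _ _ hzb).2]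
    rw [this]
    exact Subgroup.commutator_mem_commutator a'.2 b'.2
  refine ⟨σ, ⟨hsurj, fun x hx => Subgroup.mem_center_iff.2 fun y => Subtype.ext ?_, hperf ▸ le_top⟩, fun _ => rfl⟩
  exact Subgroup.mem_center_iff.1 (hc (show p (x : E) = 1 from congrArg Subtype.val hx)) y

variable {D : ChevalleyDatum} {T : Tbl} {F : Type*} [Field F] {C : Cert D T} {E : Type*} [Group E]
variable (Φ : StAll C F E) (K : FullCert D T) (hN : HasNbr D T)
include K hN

/-- The commutator of a torus element with a pair of orthogonal reflection elements. -/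
theorem comm_tor_pair {i j : ℕ} (hi : i < D.rank) (hj : j < D.rank) {u v : F} (hu : u ≠ 0) (hv : v ≠ 0)
    (hij : ∀ t : F, Commute (hg C (T.simp' i) u) (xg C (T.simp' j) t) ∧
      Commute (hg C (T.simp' j) v) (xg C (T.simp' i) t) ∧ Commute (hg C (T.simp' j) (v ^ 2)) (xg C (T.simp' i) t)) :
    ⁅Φ.hH (T.simp' i) u * Φ.hH (T.simp' j) v, Φ.nH (T.simp' i) 1 * Φ.nH (T.simp' j) 1⁆ =
      Φ.hH (T.simp' i) (u ^ 2) * Φ.hH (T.simp' j) (v ^ 2) := by
  have hr := C.spec.simp_lt i hi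
  have hs := C.spec.simp_lt j hj
  -- conjugation of a reflection element by a torus element
  have conjN : ∀ {h : E}, h ∈ Φ.torH → ∀ {k : ℕ}, k < D.rank → ∀ {χ : F},
      Φ.proj h * xg C (T.simp' k) 1 * (Φ.proj h)⁻¹ = xg C (T.simp' k) χ →
      ∀ x : F, h * Φ.nH (T.simp' k) x * h⁻¹ = Φ.nH (T.simp' k) (χ * x) := by
    intro h hh k hk χ hχ x
    have hp := C.spec.simp_lt k hk
    have hn := C.spec.neg_lt _ hp
    obtain ⟨ψ, hψ⟩ := diag_char C (Φ.proj_torH hh)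
    have e0 : ψ (T.simp' k) = χ := xg_param_inj C hp (by rw [← hχ, (hψ _ hp).2.2, mul_one])
    have ex : ∀ a : F, h * Φ.X (T.simp' k) a * h⁻¹ = Φ.X (T.simp' k) (χ * a) := fun a =>
      Φ.torH_conj K hN hh hp (by rw [(hψ _ hp).2.2, e0])
    have ey : ∀ a : F, h * Φ.X (T.neg (T.simp' k)) a * h⁻¹ = Φ.X (T.neg (T.simp' k)) (χ⁻¹ * a) := fun a =>
      Φ.torH_conj K hN hh hn (by rw [(hψ _ hn).2.2, (hψ _ hp).2.1, e0])
    rw [StAll.nH, StAll.nH, mul_inv, show -(χ⁻¹ * x⁻¹) = χ⁻¹ * -x⁻¹ by ring, ← ex, ← ey]; group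
  have hh : Φ.hH (T.simp' i) u * Φ.hH (T.simp' j) v ∈ Φ.torH := mul_mem (Φ.hH_mem_torH hi hu) (Φ.hH_mem_torH hj hv)
  have cI : Φ.proj (Φ.hH (T.simp' i) u * Φ.hH (T.simp' j) v) * xg C (T.simp' i) 1 *
      (Φ.proj (Φ.hH (T.simp' i) u * Φ.hH (T.simp' j) v))⁻¹ = xg C (T.simp' i) (u ^ 2) := by
    rw [map_mul, Φ.proj_hH hr, Φ.proj_hH hs, mul_inv_rev,
      show ∀ a b x : GL D.Idx F, a * b * x * (b⁻¹ * a⁻¹) = a * (b * x * b⁻¹) * a⁻¹ from fun a b x => by group,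
      show hg C (T.simp' j) v * xg C (T.simp' i) 1 * (hg C (T.simp' j) v)⁻¹ = xg C (T.simp' i) 1 from by
        rw [(hij 1).2.1.eq, mul_inv_cancel_right], hg_conj_xg C hr hu, mul_one]
  have cJ : Φ.proj (Φ.hH (T.simp' i) u * Φ.hH (T.simp' j) v) * xg C (T.simp' j) 1 *
      (Φ.proj (Φ.hH (T.simp' i) u * Φ.hH (T.simp' j) v))⁻¹ = xg C (T.simp' j) (v ^ 2) := by
    rw [map_mul, Φ.proj_hH hr, Φ.proj_hH hs, mul_inv_rev,
      show ∀ a b x : GL D.Idx F, a * b * x * (b⁻¹ * a⁻¹) = a * (b * x * b⁻¹) * a⁻¹ from fun a b x => by group,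
      hg_conj_xg C hs hv, mul_one, (hij _).1.eq, mul_inv_cancel_right]
  have e1 := conjN hh hi cI 1
  have e2 := conjN hh hj cJ 1
  have e3 : Φ.hH (T.simp' j) (v ^ 2) * Φ.nH (T.simp' i) (-1) = Φ.nH (T.simp' i) (-1) * Φ.hH (T.simp' j) (v ^ 2) := by
    rw [← mul_inv_eq_iff_eq_mul, conjN (Φ.hH_mem_torH hj (pow_ne_zero 2 hv)) hi (χ := 1) (by
      rw [Φ.proj_hH hs, (hij 1).2.2.eq, mul_inv_cancel_right]), one_mul]
  rw [mul_one] at e1 e2
  set h := Φ.hH (T.simp' i) u * Φ.hH (T.simp' j) v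
  rw [commutatorElement_def, show h * (Φ.nH (T.simp' i) 1 * Φ.nH (T.simp' j) 1) * h⁻¹ =
    (h * Φ.nH (T.simp' i) 1 * h⁻¹) * (h * Φ.nH (T.simp' j) 1 * h⁻¹) by group, e1, e2, mul_inv_rev, Φ.nH_inv hr,
    Φ.nH_inv hs]
  rw [show Φ.nH (T.simp' i) (u ^ 2) * Φ.nH (T.simp' j) (v ^ 2) * (Φ.nH (T.simp' j) (-1) * Φ.nH (T.simp' i) (-1)) =
    Φ.nH (T.simp' i) (u ^ 2) * (Φ.hH (T.simp' j) (v ^ 2) * Φ.nH (T.simp' i) (-1)) by
      simp only [StAll.hH, mul_assoc], e3, StAll.hH, StAll.hH, mul_assoc]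

end Cfsg.Lib.Chev.TwMult
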